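import Cfsg.Agent.H371.Core.Base

/-!
# Simple groups whose prime graph is that of `PSL_2(p)`: the conditions (helper432)

`NP p n m` : the arithmetic, `{n, m} = {(p + 1) / 2, (p - 1) / 2}` with `n` odd.
`PB S p n m` : the prime divisors of `|S|` are among those of `p n m`, `p` and the primes dividing `n` do occur, `p` is
isolated, the primes of `n` are not adjacent to others.
-/

set_option autoImplicit false

namespace Cfsg.Agent.H432.PG

open Cfsg.Agent.H94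

/-- `{n, m} = {(p + 1) / 2, (p - 1) / 2}` with `n` odd -/
structure NP (p n m : ℕ) : Prop where
  hp : p.Prime
  h11 : 11 < p
  h12 : p % 12 ≠ 1
  hn : Odd n
  h : (p = 2 * n + 1 ∧ m = n + 1) ∨ (p + 1 = 2 * n ∧ n = m + 1)

/-- the conditions on the simple group -/
structure PB (S : Type*) [Group S] (p n m : ℕ) : Prop where
  A : NP p n m
  cov : ∀ r : ℕ, r.Prime → r ∣ Nat.card S → r = p ∨ r ∣ n ∨ r ∣ m
  dp : p ∣ Nat.card S
  dn : ∀ r : ℕ, r.Prime → r ∣ n → r ∣ Nat.card S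
  ap : ∀ r : ℕ, ¬ H94.PG.Adj S p r
  an : ∀ r s : ℕ, r ∣ n → ¬ s ∣ n → ¬ H94.PG.Adj S r s

namespace NP
variable {p n m : ℕ} (A : NP p n m)
include A

theorem n_pos : 5 < n := by have := A.h; have := A.h11; omega

theorem odd_p : p % 2 = 1 := by
  have := A.h
  omega

theorem even_m : 2 ∣ m := by
  obtain ⟨k, hk⟩ := A.hn
  have := A.h
  omega

theorem not_p_dvd_n : ¬ p ∣ n := by
  intro h
  have h1 := A.n_pos
  have h2 := Nat.le_of_dvd (by omega) h
  have := A.h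
  omega

theorem two_not_dvd_n : ¬ 2 ∣ n := by
  obtain ⟨k, hk⟩ := A.hn
  omega

theorem sq_eq : (p : ℤ) ^ 2 - 1 = 4 * n * m := by
  rcases A.h with ⟨h1, h2⟩ | ⟨h1, h2⟩
  · subst h1 h2
    push_cast
    ring
  · subst h2
    have : (p : ℤ) + 1 = 2 * (m + 1) := by exact_mod_cast h1
    have h3 : (p : ℤ) = 2 * m + 1 := by linarith
    rw [h3]
    push_cast
    ring

theorem ne_13 : p ≠ 13 := by
  rintro rfl
  exact A.h12 (by norm_num)

end NP

namespace PB
variable {S : Type*} [Group S] {p n m : ℕ}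

theorem congr {T : Type*} [Group T] (B : PB S p n m) (e : S ≃* T) : PB T p n m where
  A := B.A
  cov := fun r hr h => B.cov r hr (by rwa [Nat.card_congr e.toEquiv])
  dp := by rw [← Nat.card_congr e.toEquiv]; exact B.dp
  dn := fun r hr h => by rw [← Nat.card_congr e.toEquiv]; exact B.dn r hr h
  ap := fun r h => B.ap r (h.map e.symm.toMonoidHom e.symm.injective)
  an := fun r s h1 h2 h => B.an r s h1 h2 (h.map e.symm.toMonoidHom e.symm.injective)

variable (B : PB S p n m)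
include B

theorem conn_p {r : ℕ} (h : H94.PG.Conn S p r) : r = p := by
  unfold H94.PG.Conn at h
  induction h with
  | refl => rfl
  | tail _ h ih => subst ih; exact absurd h (B.ap _)

theorem conn_n {r s : ℕ} (hr : r ∣ n) (h : H94.PG.Conn S r s) : s ∣ n := by
  unfold H94.PG.Conn at h
  induction h with
  | refl => exact hr
  | tail _ h ih =>
    by_contra h1
    exact B.an _ _ ih h1 h

theorem not_conn_p : ¬ H94.PG.Conn S 2 p := by
  intro h
  have h1 := B.conn_p h.symm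
  have := B.A.h11
  omega

theorem not_conn_n {r : ℕ} (hr : r ∣ n) : ¬ H94.PG.Conn S 2 r := fun h => B.A.two_not_dvd_n (B.conn_n hr h.symm)

theorem exists_prime : ∃ r : ℕ, r.Prime ∧ r ∣ n := by
  have := B.A.n_pos
  obtain ⟨r, hr⟩ := Nat.exists_prime_and_dvd (n := n) (by omega)
  exact ⟨r, hr⟩

theorem ne_two {r : ℕ} (hr : r ∣ n) : r ≠ 2 := by
  rintro rfl
  exact B.A.two_not_dvd_n hr

theorem not_two : ¬ H371.Core.Two S := by
  intro h
  obtain ⟨r, hr, hrn⟩ := B.exists_prime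
  have h11 := B.A.h11
  rcases h B.A.hp hr (by omega) (B.ne_two hrn) B.dp (B.dn r hr hrn) with h1 | h1 | h1
  · exact B.not_conn_p h1
  · exact B.not_conn_n hrn h1
  · have h2 := B.conn_p h1
    rw [h2] at hrn
    exact B.A.not_p_dvd_n hrn

theorem dvd_sq {r : ℕ} (hr : r.Prime) (hd : r ∣ Nat.card S) (hrp : r ≠ p) : (r : ℤ) ∣ (p : ℤ) ^ 2 - 1 := by
  rw [B.A.sq_eq]
  rcases B.cov r hr hd with h | h | h
  · exact absurd h hrp
  · have : (r : ℤ) ∣ (n : ℤ) := Int.natCast_dvd_natCast.2 h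
    exact Dvd.dvd.mul_right (Dvd.dvd.mul_left this 4) _
  · have : (r : ℤ) ∣ (m : ℤ) := Int.natCast_dvd_natCast.2 h
    exact Dvd.dvd.mul_left this _

/-- the order of an element, if divisible by `p`, is a power of `p` -/
theorem pow_eq [Finite S] {N : ℕ} (h : ∃ g : S, orderOf g = N) (hN : p ∣ N) : ∃ a : ℕ, N = p ^ a := by
  obtain ⟨g, rfl⟩ := h
  have h0 : orderOf g ≠ 0 := (orderOf_pos g).ne'
  refine ⟨_, Nat.eq_prime_pow_of_unique_prime_dvd h0 fun {d} hd hdd => ?_⟩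
  exact B.conn_p (H94.PG.conn_of_orderOf B.A.hp hd hN hdd)

/-- **The congruences.** -/
theorem pm {N : ℕ} (hN : ∃ a : ℕ, N = p ^ a) {r : ℕ} (hr : r.Prime) (hd : r ∣ Nat.card S) (hrp : r ≠ p) :
    (r : ℤ) ∣ (N : ℤ) ^ 2 - 1 := by
  obtain ⟨a, rfl⟩ := hN
  refine (B.dvd_sq hr hd hrp).trans ?_
  push_cast
  rw [← pow_mul, mul_comm a 2, pow_mul]
  have := sub_dvd_pow_sub_pow ((p : ℤ) ^ 2) 1 a
  rwa [one_pow] at this

/-- the two signs -/
theorem pm' {N : ℕ} (hN : ∃ a : ℕ, N = p ^ a) {r : ℕ} (hr : r.Prime) (hd : r ∣ Nat.card S) (hrp : r ≠ p) :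
    (r : ℤ) ∣ (N : ℤ) - 1 ∨ (r : ℤ) ∣ (N : ℤ) + 1 := by
  have h := B.pm hN hr hd hrp
  have e : (N : ℤ) ^ 2 - 1 = (N - 1) * (N + 1) := by ring
  rw [e] at h
  exact (Nat.prime_iff_prime_int.1 hr).dvd_or_dvd h

/-- `p` is at least `17` -/
theorem p_ge : 17 ≤ p := by
  have h1 := B.A.h11
  have h2 := B.A.hp
  have h3 := B.A.ne_13
  by_contra h
  have : p = 12 ∨ p = 14 ∨ p = 15 ∨ p = 16 := by omega
  rcases this with rfl | rfl | rfl | rfl <;> revert h2 <;> norm_num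

/-- all other primes of `|S|` satisfy the congruence: a numerical check for groups of known order -/
theorem card_false {N : ℕ} (hN : Nat.card S = N) (L : List ℕ) (k : ℕ) (hL : ∀ r ∈ L, r.Prime) (hk : N ∣ L.prod ^ k)
    (h : ∀ q ∈ L, 11 < q → q % 12 ≠ 1 → ∃ r ∈ L, r ∣ N ∧ r ≠ q ∧ ¬ r ∣ q ^ 2 - 1) : False := by
  subst hN
  have h4 : p ∈ L := by
    have h1 : p ∣ L.prod := B.A.hp.dvd_of_dvd_pow (B.dp.trans hk)
    obtain ⟨a, ha, hpa⟩ := (Nat.Prime.prime B.A.hp).dvd_prod_iff.1 h1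
    rwa [(Nat.prime_dvd_prime_iff_eq B.A.hp (hL a ha)).1 hpa]
  obtain ⟨r, hr, hr2, hne, hnd⟩ := h p h4 B.A.h11 B.A.h12
  apply hnd
  have h1 := B.dvd_sq (hL r hr) hr2 hne
  have h2 : 1 ≤ p ^ 2 := Nat.one_le_pow _ _ B.A.hp.pos
  have h3 : ((p ^ 2 - 1 : ℕ) : ℤ) = (p : ℤ) ^ 2 - 1 := by push_cast [Nat.cast_sub h2]; ring
  rw [← h3] at h1
  exact Int.natCast_dvd_natCast.1 h1

end PB

end Cfsg.Agent.H432.PG

namespace Cfsg.Agent.H432.PG

open Cfsg.Agent.H94

namespace NP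
variable {p n m : ℕ} (A : NP p n m)
include A

theorem coprime : Nat.Coprime n m := by
  rcases A.h with ⟨-, rfl⟩ | ⟨-, rfl⟩
  · simp
  · simp

theorem not_p_dvd_m : ¬ p ∣ m := by
  intro h
  have h1 := A.n_pos
  have h0 := A.h
  have h2 := Nat.le_of_dvd (by omega) h
  omega

theorem prime_n_not_m {r : ℕ} (hr : r.Prime) (h : r ∣ n) : ¬ r ∣ m := by
  intro h2
  have h3 := Nat.dvd_gcd h h2
  rw [A.coprime] at h3
  exact hr.one_lt.ne' (Nat.dvd_one.1 h3)

end NP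

/-- the prime graph of `G` is contained in that of `PSL_2(p)`, with the same vertices -/
structure GPg (G : Type*) [Group G] (p n m : ℕ) : Prop where
  A : NP p n m
  pr : ∀ r : ℕ, r.Prime → (r ∣ Nat.card G ↔ (r = p ∨ r ∣ n ∨ r ∣ m))
  ad : ∀ r s : ℕ, r.Prime → s.Prime → r ≠ s → (∃ y : G, orderOf y = r * s) → r * s ∣ n ∨ r * s ∣ m

namespace GPg
variable {G : Type*} [Group G] {p n m : ℕ} (B : GPg G p n m)
include B

theorem not_p {r : ℕ} (hr : r.Prime) (hne : r ≠ p) : ¬ ∃ y : G, orderOf y = p * r := by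
  intro h
  rcases B.ad p r B.A.hp hr hne.symm h with h | h
  · exact B.A.not_p_dvd_n ((Dvd.intro r rfl).trans h)
  · exact B.A.not_p_dvd_m ((Dvd.intro r rfl).trans h)

theorem not_n {r s : ℕ} (hr : r.Prime) (hs : s.Prime) (hrn : r ∣ n) (hsn : ¬ s ∣ n) : ¬ ∃ y : G, orderOf y = r * s := by
  intro h
  rcases B.ad r s hr hs (by rintro rfl; exact hsn hrn) h with h | h
  · exact hsn ((Dvd.intro_left r rfl).trans h)
  · exact B.A.prime_n_not_m hr hrn ((Dvd.intro s rfl).trans h)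

/-- the odd primes not adjacent to `2` -/
theorem not_two {u : ℕ} (h : u = p ∨ (u.Prime ∧ u ∣ n)) : u.Prime ∧ u ≠ 2 ∧ u ∣ Nat.card G ∧
    ¬ ∃ y : G, orderOf y = 2 * u := by
  have h11 := B.A.h11
  rcases h with rfl | ⟨h1, h2⟩
  · refine ⟨B.A.hp, by omega, (B.pr _ B.A.hp).2 (Or.inl rfl), ?_⟩
    rw [mul_comm]
    exact B.not_p Nat.prime_two (by omega)
  · refine ⟨h1, ?_, (B.pr _ h1).2 (Or.inr (Or.inl h2)), ?_⟩
    · rintro rfl
      exact B.A.two_not_dvd_n h2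
    · rw [mul_comm]
      exact B.not_n h1 Nat.prime_two h2 B.A.two_not_dvd_n

theorem congr {H : Type*} [Group H] (e : G ≃* H) : GPg H p n m where
  A := B.A
  pr := fun r hr => by rw [← Nat.card_congr e.toEquiv]; exact B.pr r hr
  ad := fun r s hr hs hne ⟨y, hy⟩ => B.ad r s hr hs hne ⟨e.symm y, by rw [MulEquiv.orderOf_eq, hy]⟩

end GPg

end Cfsg.Agent.H432.PG
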