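import Mathlib

/-!
# The congruences `N ≡ ± 1` modulo the other primes (helper432)

`N` is the order of the cyclic torus containing the elements of order `p`, so `N` is a power of `p`; all other primes
`r` of the group order divide `p ^ 2 - 1`, hence `N - 1` or `N + 1`. This kills `G₂`, `F₄`, `E₈`, `²F₄`, `Sz`, `Ree`.
-/

set_option autoImplicit false

namespace Cfsg.Agent.H432.PG.Num

theorem of_bez {r : ℕ} {X Y A B c : ℤ} (hX : (r : ℤ) ∣ X) (hY : (r : ℤ) ∣ Y) (e : A * X + B * Y = c) :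
    (r : ℤ) ∣ c := by
  rw [← e]
  exact dvd_add (Dvd.dvd.mul_left hX A) (Dvd.dvd.mul_left hY B)

theorem exists_prime_int {x : ℤ} (h : 1 < x) : ∃ r : ℕ, r.Prime ∧ (r : ℤ) ∣ x := by
  obtain ⟨r, hr, hd⟩ := Nat.exists_prime_and_dvd (n := x.natAbs) (by omega)
  exact ⟨r, hr, Int.natCast_dvd.2 hd⟩

theorem exists_odd_prime_int {x : ℤ} (h : 1 < x) (h2 : x % 2 = 1) : ∃ r : ℕ, r.Prime ∧ r ≠ 2 ∧ (r : ℤ) ∣ x := by
  obtain ⟨r, hr, hd⟩ := exists_prime_int h
  refine ⟨r, hr, ?_, hd⟩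
  rintro rfl
  push_cast at hd
  omega

theorem eq_of_dvd {r : ℕ} (hr : r.Prime) {c : ℕ} (hc : c.Prime) (h : (r : ℤ) ∣ (c : ℤ)) : r = c :=
  (Nat.prime_dvd_prime_iff_eq hr hc).1 (Int.natCast_dvd_natCast.1 h)

theorem not_dvd_one {r : ℕ} (hr : r.Prime) (h : (r : ℤ) ∣ 1) : False := by
  have h1 : r ∣ 1 := by exact_mod_cast h
  exact hr.one_lt.ne' (Nat.dvd_one.1 h1)

theorem dvd_zmod (n : ℕ) (x : ℤ) : (n : ℤ) ∣ x ↔ (x : ZMod n) = 0 := (ZMod.intCast_zmod_eq_zero_iff_dvd x n).symm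

/-- the congruences -/
def Cg (p : ℕ) (N : ℤ) (X : ℤ) : Prop :=
  ∀ r : ℕ, r.Prime → (r : ℤ) ∣ X → r ≠ p → (r : ℤ) ∣ N - 1 ∨ (r : ℤ) ∣ N + 1

/-! ### `E₈` -/

def e15 (q : ℤ) : ℤ := q ^ 8 - q ^ 7 + q ^ 5 - q ^ 4 + q ^ 3 - q + 1
def e20 (q : ℤ) : ℤ := q ^ 8 - q ^ 6 + q ^ 4 - q ^ 2 + 1
def e24 (q : ℤ) : ℤ := q ^ 8 - q ^ 4 + 1
def e30 (q : ℤ) : ℤ := q ^ 8 + q ^ 7 - q ^ 5 - q ^ 4 - q ^ 3 + q + 1

theorem not_five_e24 (q : ℤ) : ¬ ((5 : ℕ) : ℤ) ∣ e24 q := by
  rw [dvd_zmod]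
  unfold e24
  push_cast
  generalize (q : ZMod 5) = x
  revert x
  decide

theorem not_three_e24 (q : ℤ) : ¬ ((3 : ℕ) : ℤ) ∣ e24 q := by
  rw [dvd_zmod]
  unfold e24
  push_cast
  generalize (q : ZMod 3) = x
  revert x
  decide

theorem e24_gt {q : ℤ} (hq : 2 ≤ q) : 1 < e24 q := by
  unfold e24
  have h1 : 16 ≤ q ^ 4 := by
    calc (16 : ℤ) = 2 ^ 4 := by norm_num
      _ ≤ q ^ 4 := pow_le_pow_left₀ (by norm_num) hq 4
  nlinarith

theorem e15_gt {q : ℤ} (hq : 2 ≤ q) : 1 < e15 q := by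
  unfold e15
  have h0 : (0 : ℤ) ≤ q := by linarith
  have h1 : ∀ k : ℕ, q ^ k * 2 ≤ q ^ (k + 1) := by
    intro k
    rw [pow_succ]
    exact mul_le_mul_of_nonneg_left hq (pow_nonneg h0 k)
  have a1 := h1 1
  have a2 := h1 2
  have a3 := h1 3
  have a4 := h1 4
  have a5 := h1 5
  have a6 := h1 6
  have a7 := h1 7
  norm_num at a1 a2 a3 a4 a5 a6 a7
  linarith

theorem e30_gt {q : ℤ} (hq : 2 ≤ q) : 1 < e30 q := by
  unfold e30
  have h0 : (0 : ℤ) ≤ q := by linarith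
  have h1 : ∀ k : ℕ, q ^ k * 2 ≤ q ^ (k + 1) := by
    intro k
    rw [pow_succ]
    exact mul_le_mul_of_nonneg_left hq (pow_nonneg h0 k)
  have a1 := h1 1
  have a2 := h1 2
  have a3 := h1 3
  have a4 := h1 4
  have a5 := h1 5
  have a6 := h1 6
  have a7 := h1 7
  norm_num at a1 a2 a3 a4 a5 a6 a7
  linarith

/-- numerics for `E₈(q)` -/
theorem num_E8 {p : ℕ} (hp : p.Prime) {q N : ℤ} (hq : 2 ≤ q) (hpN : (p : ℤ) ∣ N)
    (hN : N = e15 q ∨ N = e20 q ∨ N = e24 q ∨ N = e30 q)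
    (c15 : Cg p N (e15 q)) (c24 : Cg p N (e24 q)) (c30 : Cg p N (e30 q)) : False := by
  obtain ⟨r, hr, hr24⟩ := exists_prime_int (e24_gt hq)
  have key5 : (r : ℤ) ∣ 5 → False := fun h => by
    have := eq_of_dvd hr (c := 5) (by norm_num) h
    subst this
    exact not_five_e24 q hr24
  have key3 : (r : ℤ) ∣ 3 → False := fun h => by
    have := eq_of_dvd hr (c := 3) (by norm_num) h
    subst this
    exact not_three_e24 q hr24
  rcases hN with rfl | rfl | rfl | rfl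
  · have hrp : r ≠ p := by
      rintro rfl
      exact not_dvd_one hr (of_bez (A := -q ^ 7 - q ^ 5 + q) (B := q ^ 7 - q ^ 6 + q ^ 5 + q ^ 2 - q + 1) hpN hr24
        (by unfold e15 e24; ring))
    rcases c24 r hr hr24 hrp with h | h
    · exact key5 (of_bez (A := -q ^ 6 + 2 * q ^ 5 + q ^ 2 - 2 * q + 5)
        (B := q ^ 6 - q ^ 5 - q ^ 4 - 2 * q ^ 3 - 2 * q ^ 2 + q - 2) hr24 h (by unfold e15 e24; ring))
    · exact key5 (of_bez (A := q ^ 6 - 2 * q ^ 4 + 4 * q ^ 3 - 3 * q ^ 2 + 1)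
        (B := -q ^ 6 - q ^ 5 + q ^ 4 - 2 * q ^ 3 + 2 * q ^ 2 + q + 2) hr24 h (by unfold e15 e24; ring))
  · have hrp : r ≠ p := by
      rintro rfl
      exact not_dvd_one hr (of_bez (A := -2 * q ^ 6 - 2 * q ^ 4 + q ^ 2 + 2) (B := 2 * q ^ 6 + q ^ 2 - 1) hpN hr24
        (by unfold e20 e24; ring))
    rcases c24 r hr hr24 hrp with h | h
    · exact key3 (of_bez (A := -q ^ 6 + 2 * q ^ 4 - q ^ 2 + 3) (B := q ^ 6 - q ^ 4 - 2 * q ^ 2 - 1) hr24 h
        (by unfold e20 e24; ring))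
    · exact key5 (of_bez (A := q ^ 6 - q ^ 2 - 1) (B := -q ^ 6 - q ^ 4 + 2 * q ^ 2 + 3) hr24 h
        (by unfold e20 e24; ring))
  · obtain ⟨s, hs, hs15⟩ := exists_prime_int (e15_gt hq)
    obtain ⟨t, ht, ht30⟩ := exists_prime_int (e30_gt hq)
    have hsp : s ≠ p := by
      rintro rfl
      exact not_dvd_one hs (of_bez (A := q ^ 7 - q ^ 6 + q ^ 5 + q ^ 2 - q + 1) (B := -q ^ 7 - q ^ 5 + q) hpN hs15
        (by unfold e15 e24; ring))
    have htp : t ≠ p := by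
      rintro rfl
      exact not_dvd_one ht (of_bez (A := -q ^ 7 - q ^ 6 - q ^ 5 + q ^ 2 + q + 1) (B := q ^ 7 + q ^ 5 - q) hpN ht30
        (by unfold e30 e24; ring))
    have h1 : s = 211 := by
      rcases c15 s hs hs15 hsp with h | h
      · exact (not_dvd_one hs (of_bez (A := -q ^ 6 - q ^ 5 + q ^ 2 + q + 1) (B := q ^ 6 - q ^ 4 + q ^ 3) hs15 h
          (by unfold e15 e24; ring))).elim
      · exact eq_of_dvd hs (by norm_num) (of_bez
          (A := -24 * q ^ 7 - 13 * q ^ 6 - 51 * q ^ 5 - 54 * q ^ 4 - 58 * q ^ 3 - 49 * q ^ 2 + 35 * q - 25)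
          (B := 24 * q ^ 7 - 11 * q ^ 6 + 38 * q ^ 5 + 27 * q ^ 4 + 17 * q ^ 3 + 42 * q ^ 2 - 30 * q + 118) hs15 h
          (by unfold e15 e24; push_cast; ring))
    have h2 : t = 211 := by
      rcases c30 t ht ht30 htp with h | h
      · exact (not_dvd_one ht (of_bez (A := -q ^ 6 + q ^ 5 + q ^ 2 - q + 1) (B := q ^ 6 - q ^ 4 - q ^ 3) ht30 h
          (by unfold e30 e24; ring))).elim
      · exact eq_of_dvd ht (by norm_num) (of_bez
          (A := 24 * q ^ 7 - 13 * q ^ 6 + 51 * q ^ 5 - 54 * q ^ 4 + 58 * q ^ 3 - 49 * q ^ 2 - 35 * q - 25)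
          (B := -24 * q ^ 7 - 11 * q ^ 6 - 38 * q ^ 5 + 27 * q ^ 4 - 17 * q ^ 3 + 42 * q ^ 2 + 30 * q + 118) ht30 h
          (by unfold e30 e24; push_cast; ring))
    subst h1 h2
    have h3 := of_bez (A := -q ^ 7 - q ^ 6 - q ^ 5 + q ^ 2 + q + 1) (B := q ^ 7 - q ^ 6 + q ^ 5 + q ^ 2 - q + 1)
      (c := 2) hs15 ht30 (by unfold e15 e30; ring)
    norm_num at h3
  · have hrp : r ≠ p := by
      rintro rfl
      exact not_dvd_one hr (of_bez (A := q ^ 7 + q ^ 5 - q) (B := -q ^ 7 - q ^ 6 - q ^ 5 + q ^ 2 + q + 1) hpN hr24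
        (by unfold e30 e24; ring))
    rcases c24 r hr hr24 hrp with h | h
    · exact key5 (of_bez (A := -q ^ 6 - 2 * q ^ 5 + q ^ 2 + 2 * q + 5)
        (B := q ^ 6 + q ^ 5 - q ^ 4 + 2 * q ^ 3 - 2 * q ^ 2 - q - 2) hr24 h (by unfold e30 e24; ring))
    · exact key5 (of_bez (A := q ^ 6 - 2 * q ^ 4 - 4 * q ^ 3 - 3 * q ^ 2 + 1)
        (B := -q ^ 6 + q ^ 5 + q ^ 4 + 2 * q ^ 3 + 2 * q ^ 2 - q + 2) hr24 h (by unfold e30 e24; ring))

/-! ### `F₄` -/

/-- numerics for `F₄(q)` -/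
theorem num_F4 {p : ℕ} {q N : ℤ} (hq : 2 ≤ q) (hp : p.Prime) (hpN : (p : ℤ) ∣ N)
    (hN : N = q ^ 4 + 1 ∨ N = q ^ 4 - q ^ 2 + 1) (c8 : Cg p N (q ^ 4 + 1)) (c12 : Cg p N (q ^ 4 - q ^ 2 + 1)) :
    False := by
  rcases hN with rfl | rfl
  · obtain ⟨r, hr, hd⟩ := exists_prime_int (x := q ^ 4 - q ^ 2 + 1) (by nlinarith [sq_nonneg (q ^ 2 - 1)])
    have h3 : (r : ℤ) ∣ 3 → False := fun h => by
      have := eq_of_dvd hr (c := 3) (by norm_num) h
      subst this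
      revert hd
      rw [dvd_zmod]
      push_cast
      generalize (q : ZMod 3) = x
      revert x
      decide
    have hrp : r ≠ p := by
      rintro rfl
      exact not_dvd_one hr (of_bez (A := 1 - q ^ 2) (B := q ^ 2) hpN hd (by ring))
    rcases c12 r hr hd hrp with h | h
    · exact not_dvd_one hr (of_bez (A := q ^ 2 + 1) (B := -q ^ 2) hd h (by ring))
    · exact h3 (of_bez (A := q ^ 2 - 1) (B := -q ^ 2 + 2) hd h (by ring))
  · have hodd : ∃ r : ℕ, r.Prime ∧ r ≠ 2 ∧ (r : ℤ) ∣ q ^ 4 + 1 := by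
      rcases Int.even_or_odd q with ⟨c, hc⟩ | ⟨c, hc⟩
      · have e : q ^ 4 + 1 = 2 * (8 * c ^ 4) + 1 := by rw [hc]; ring
        refine exists_odd_prime_int ?_ ?_
        · have : 0 < q ^ 4 := by positivity
          linarith
        · rw [e]
          omega
      · obtain ⟨r, hr, hr2, hd⟩ := exists_odd_prime_int (x := 8 * c ^ 4 + 16 * c ^ 3 + 12 * c ^ 2 + 4 * c + 1) (by
          have hc1 : 1 ≤ c := by omega
          have h3 : 0 ≤ c ^ 3 := by positivity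
          have h4 : 0 ≤ c ^ 4 := by positivity
          have h2 : 0 ≤ c ^ 2 := by positivity
          linarith) (by omega)
        refine ⟨r, hr, hr2, ?_⟩
        have e : q ^ 4 + 1 = 2 * (8 * c ^ 4 + 16 * c ^ 3 + 12 * c ^ 2 + 4 * c + 1) := by rw [hc]; ring
        rw [e]
        exact Dvd.dvd.mul_left hd 2
    obtain ⟨r, hr, hr2, hd⟩ := hodd
    have h2 : (r : ℤ) ∣ 2 → False := fun h => hr2 (eq_of_dvd hr Nat.prime_two h)
    have hrp : r ≠ p := by
      rintro rfl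
      exact not_dvd_one hr (of_bez (A := q ^ 2) (B := 1 - q ^ 2) hpN hd (by ring))
    rcases c8 r hr hd hrp with h | h
    · exact h2 (of_bez (A := -q ^ 2 + 2) (B := q ^ 2 - 1) hd h (by ring))
    · exact h2 (of_bez (A := -q ^ 2) (B := q ^ 2 + 1) hd h (by ring))

/-! ### `G₂` -/

theorem pow_of_primes {x : ℤ} (hx : 0 < x) {c : ℕ} (h : ∀ r : ℕ, r.Prime → (r : ℤ) ∣ x → r = c) :
    ∃ k : ℕ, x = (c : ℤ) ^ k := by
  have h1 : ∀ {d : ℕ}, d.Prime → d ∣ x.natAbs → d = c := fun hd hdd => h _ hd (Int.natCast_dvd.2 hdd)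
  have h2 := Nat.eq_prime_pow_of_unique_prime_dvd (n := x.natAbs) (by omega) h1
  refine ⟨x.natAbs.primeFactorsList.length, ?_⟩
  have h3 : (x.natAbs : ℤ) = x := by omega
  rw [← h3]
  exact_mod_cast h2

theorem not_nine {q : ℤ} : ¬ ((9 : ℕ) : ℤ) ∣ q ^ 2 - q + 1 ∧ ¬ ((9 : ℕ) : ℤ) ∣ q ^ 2 + q + 1 := by
  rw [dvd_zmod, dvd_zmod]
  push_cast
  generalize (q : ZMod 9) = x
  revert x
  decide

/-- a positive integer with the only prime `3` and not divisible by `9` -/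
theorem three_pow {x : ℤ} (hx : 0 < x) (h : ∀ r : ℕ, r.Prime → (r : ℤ) ∣ x → r = 3) (h9 : ¬ ((9 : ℕ) : ℤ) ∣ x) :
    x = 1 ∨ x = 3 := by
  obtain ⟨k, rfl⟩ := pow_of_primes hx h
  rcases k with _ | _ | k
  · left; simp
  · right; simp
  · exfalso
    apply h9
    exact Dvd.intro_left ((3 : ℤ) ^ k) (by push_cast; ring)

/-- a positive integer with primes `3` and `7` and not divisible by `9` -/
theorem seven_pow {x : ℤ} (hx : 0 < x) (h : ∀ r : ℕ, r.Prime → (r : ℤ) ∣ x → r = 3 ∨ r = 7)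
    (h9 : ¬ ((9 : ℕ) : ℤ) ∣ x) : ∃ y : ℕ, x = 7 ^ y ∨ x = 3 * 7 ^ y := by
  obtain ⟨y, m, hm, hxm⟩ := Nat.exists_eq_pow_mul_and_not_dvd (n := x.natAbs) (by omega) 7 (by norm_num)
  have hx' : (x.natAbs : ℤ) = x := by omega
  have hxm' : x = 7 ^ y * (m : ℤ) := by
    rw [← hx', hxm]
    push_cast
    ring
  have hm0 : 0 < (m : ℤ) := by
    rcases Nat.eq_zero_or_pos m with h0 | h0
    · rw [h0] at hxm'
      simp at hxm'
      omega
    · exact_mod_cast h0
  have h1 := three_pow hm0 (fun r hr hd => by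
      rcases h r hr (by rw [hxm']; exact Dvd.dvd.mul_left hd _) with h | h
      · exact h
      · subst h
        exact absurd (Int.natCast_dvd_natCast.1 hd) hm) (fun h => h9 (by rw [hxm']; exact Dvd.dvd.mul_left h _))
  rcases h1 with h1 | h1
  · exact ⟨y, Or.inl (by rw [hxm', h1, mul_one])⟩
  · exact ⟨y, Or.inr (by rw [hxm', h1, mul_comm])⟩

theorem two_pow_mod7 (k : ℕ) : (2 : ℤ) ^ k % 7 = 1 ∨ (2 : ℤ) ^ k % 7 = 2 ∨ (2 : ℤ) ^ k % 7 = 4 := by
  induction k with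
  | zero => left; rfl
  | succ k ih => rw [pow_succ]; omega

theorem seven_pow_mod8 (k : ℕ) : (7 : ℤ) ^ (2 * k) % 8 = 1 ∧ (7 : ℤ) ^ (2 * k + 1) % 8 = 7 := by
  induction k with
  | zero => constructor <;> rfl
  | succ k ih =>
    have e1 : (7 : ℤ) ^ (2 * (k + 1)) = 49 * 7 ^ (2 * k) := by rw [mul_add, pow_add]; ring
    have e2 : (7 : ℤ) ^ (2 * (k + 1) + 1) = 49 * 7 ^ (2 * k + 1) := by
      rw [show 2 * (k + 1) + 1 = 2 + (2 * k + 1) by ring, pow_add]; ring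
    rw [e1, e2]
    omega

/-- `q - 1 = 2 ^ k`, `q ^ 2 - q + 1` with primes `3`, `7`, `q ≡ 3 mod 7`: `q = 3` -/
theorem q_eq_three {q : ℤ} (hq : 3 ≤ q) {k : ℕ} (hk : q - 1 = 2 ^ k) (h7 : q % 7 = 3)
    (h : ∀ r : ℕ, r.Prime → (r : ℤ) ∣ q ^ 2 - q + 1 → r = 3 ∨ r = 7) : q = 3 := by
  obtain ⟨y, hy⟩ := seven_pow (by nlinarith) h not_nine.1
  rcases k with _ | _ | _ | k
  · norm_num at hk; omega
  · norm_num at hk; omega
  · norm_num at hk; omega
  · exfalso
    have e8 : (2 : ℤ) ^ (k + 1 + 1 + 1) = 8 * 2 ^ k := by ring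
    rw [e8] at hk
    have e1 : q ^ 2 - q = 8 * (2 ^ k * q) := by
      have : q ^ 2 - q = q * (q - 1) := by ring
      rw [this, hk]; ring
    rcases Nat.even_or_odd' y with ⟨z, rfl | rfl⟩
    · obtain ⟨h8, -⟩ := seven_pow_mod8 z
      rcases hy with hy | hy
      · -- between squares
        have e2 : (7 : ℤ) ^ (2 * z) = (7 ^ z) ^ 2 := by rw [mul_comm, pow_mul]
        rw [e2] at hy
        have h0 : (0 : ℤ) < 7 ^ z := by positivity
        have h1 : (7 : ℤ) ^ z < q := by nlinarith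
        have h2 : q - 1 < (7 : ℤ) ^ z := by nlinarith
        omega
      · omega
    · obtain ⟨-, h8⟩ := seven_pow_mod8 z
      rcases hy with hy | hy <;> omega

/-- numerics for `G₂(q)` -/
theorem num_G2 {p : ℕ} (hp : p.Prime) (h17 : 17 ≤ p) {q N : ℤ} (hq : 3 ≤ q) (hpN : ∃ a : ℕ, N = (p : ℤ) ^ a)
    (hdN : (p : ℤ) ∣ N) (hN : N = q ^ 2 + q + 1 ∨ N = q ^ 2 - q + 1) (c1 : Cg p N (q - 1)) (c2 : Cg p N (q + 1))
    (c3 : Cg p N (q ^ 2 + q + 1)) (c6 : Cg p N (q ^ 2 - q + 1)) : False := by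
  have hsmall : ∀ {c : ℕ}, c.Prime → c < 17 → (p : ℤ) ∣ c → False := fun hc hlt h => by
    have := eq_of_dvd hp hc h
    omega
  rcases hN with rfl | rfl
  · -- `q - 1 = 2 ^ k`
    have h1 : ∃ k : ℕ, q - 1 = ((2 : ℕ) : ℤ) ^ k := by
      refine pow_of_primes (by omega) fun r hr hd => ?_
      have hrp : r ≠ p := by
        rintro rfl
        exact hsmall (c := 3) (by norm_num) (by norm_num) (of_bez (A := -q - 2) (B := 1) hd hdN (by push_cast; ring))
      rcases c1 r hr hd hrp with h | h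
      · exact eq_of_dvd hr Nat.prime_two (of_bez (A := -q - 2) (B := 1) hd h (by push_cast; ring))
      · have h4 : (r : ℤ) ∣ 2 ^ 2 := of_bez (A := -q - 2) (B := 1) hd h (by ring)
        exact eq_of_dvd hr Nat.prime_two ((Nat.prime_iff_prime_int.1 hr).dvd_of_dvd_pow h4)
    obtain ⟨k, hk⟩ := h1
    push_cast at hk
    have h6 : ∀ r : ℕ, r.Prime → (r : ℤ) ∣ q ^ 2 - q + 1 → r = 3 ∨ (r = 7 ∧ (7 : ℤ) ∣ 2 * q + 1) := by
      intro r hr hd
      have hrp : r ≠ p := by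
        rintro rfl
        have h1 : (r : ℤ) ∣ 2 * q := by
          have := dvd_sub hdN hd
          ring_nf at this ⊢
          exact this
        rcases (Nat.prime_iff_prime_int.1 hp).dvd_or_dvd h1 with h | h
        · exact hsmall Nat.prime_two (by norm_num) (by exact_mod_cast h)
        · exact not_dvd_one hr (of_bez (A := 1) (B := 1 - q) hd h (by ring))
      rcases c6 r hr hd hrp with h | h
      · have h1 : (r : ℤ) ∣ 2 * q - 1 := by
          have := dvd_sub h hd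
          ring_nf at this ⊢
          exact this
        left
        exact eq_of_dvd hr Nat.prime_three (of_bez (A := 4) (B := 1 - 2 * q) hd h1 (by push_cast; ring))
      · have h1 : (r : ℤ) ∣ 2 * q + 1 := by
          have := dvd_sub h hd
          ring_nf at this ⊢
          exact this
        have h7 := eq_of_dvd hr (c := 7) (by norm_num) (of_bez (A := 4) (B := 3 - 2 * q) hd h1 (by push_cast; ring))
        right
        refine ⟨h7, ?_⟩
        rw [h7] at h1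
        exact_mod_cast h1
    by_cases h7 : ∀ r : ℕ, r.Prime → (r : ℤ) ∣ q ^ 2 - q + 1 → r = 3
    · rcases three_pow (by nlinarith) h7 not_nine.1 with h | h <;> nlinarith
    · push Not at h7
      obtain ⟨r, hr, hd, hr3⟩ := h7
      obtain ⟨-, h2⟩ := (h6 r hr hd).resolve_left hr3
      have hq3 := q_eq_three hq hk (by omega) (fun r hr hd => (h6 r hr hd).imp_right And.left)
      subst hq3
      have h13 : (p : ℤ) ∣ ((13 : ℕ) : ℤ) := by
        push_cast
        norm_num at hdN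
        exact hdN
      exact hsmall (c := 13) (by norm_num) (by norm_num) h13
  · have h1 : ∃ k : ℕ, q + 1 = ((2 : ℕ) : ℤ) ^ k := by
      refine pow_of_primes (by omega) fun r hr hd => ?_
      have hrp : r ≠ p := by
        rintro rfl
        exact hsmall (c := 3) (by norm_num) (by norm_num) (of_bez (A := -q + 2) (B := 1) hd hdN (by push_cast; ring))
      rcases c2 r hr hd hrp with h | h
      · exact eq_of_dvd hr Nat.prime_two (of_bez (A := -q + 2) (B := 1) hd h (by push_cast; ring))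
      · have h4 : (r : ℤ) ∣ 2 ^ 2 := of_bez (A := -q + 2) (B := 1) hd h (by ring)
        exact eq_of_dvd hr Nat.prime_two ((Nat.prime_iff_prime_int.1 hr).dvd_of_dvd_pow h4)
    obtain ⟨k, hk⟩ := h1
    push_cast at hk
    have h3 : ∀ r : ℕ, r.Prime → (r : ℤ) ∣ q ^ 2 + q + 1 → r = 3 := by
      intro r hr hd
      have hrp : r ≠ p := by
        rintro rfl
        have h1 : (r : ℤ) ∣ 2 * q := by
          have := dvd_sub hd hdN
          ring_nf at this ⊢
          exact this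
        rcases (Nat.prime_iff_prime_int.1 hp).dvd_or_dvd h1 with h | h
        · exact hsmall Nat.prime_two (by norm_num) (by exact_mod_cast h)
        · exact not_dvd_one hr (of_bez (A := 1) (B := -1 - q) hd h (by ring))
      rcases c3 r hr hd hrp with h | h
      · have h1 : (r : ℤ) ∣ 2 * q + 1 := by
          have := dvd_sub hd h
          ring_nf at this ⊢
          exact this
        exact eq_of_dvd hr Nat.prime_three (of_bez (A := 4) (B := -1 - 2 * q) hd h1 (by push_cast; ring))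
      · have h1 : (r : ℤ) ∣ 2 * q - 1 := by
          have := dvd_sub hd h
          ring_nf at this ⊢
          exact this
        have h7 := eq_of_dvd hr (c := 7) (by norm_num) (of_bez (A := 4) (B := -3 - 2 * q) hd h1 (by push_cast; ring))
        rw [h7] at h1
        have h2 : (7 : ℤ) ∣ 2 * q - 1 := by exact_mod_cast h1
        have := two_pow_mod7 k
        rw [← hk] at this
        omega
    rcases three_pow (by nlinarith) h3 not_nine.2 with h | h <;> nlinarith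

/-! ### `²F₄`, `Sz`, `Ree` -/

/-- numerics for `²F₄(2 b ^ 2)`: a prime dividing `2 b ^ 2 - 1` -/
theorem num_2F4 {p : ℕ} (hp : p.Prime) {b N : ℤ} (hb : 2 ≤ b) (hdN : (p : ℤ) ∣ N)
    (hN : N = 4 * b ^ 4 + 4 * b ^ 3 + 2 * b ^ 2 + 2 * b + 1 ∨ N = 4 * b ^ 4 - 4 * b ^ 3 + 2 * b ^ 2 - 2 * b + 1)
    (c : Cg p N (2 * b ^ 2 - 1)) : False := by
  obtain ⟨r, hr, hr2, hd⟩ := exists_odd_prime_int (x := 2 * b ^ 2 - 1) (by nlinarith) (by omega)
  have h2 : (r : ℤ) ∣ 2 → False := fun h => hr2 (eq_of_dvd hr Nat.prime_two h)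
  have h2' : ∀ {x : ℤ}, (r : ℤ) ∣ 2 * x → (r : ℤ) ∣ x := fun h =>
    ((Nat.prime_iff_prime_int.1 hr).dvd_or_dvd h).resolve_left h2
  rcases hN with rfl | rfl
  · have hrp : r ≠ p := by
      rintro rfl
      have h1 : (r : ℤ) ∣ 4 * b + 3 := of_bez (A := -(2 * b ^ 2 + 2 * b + 2)) (B := 1) hd hdN (by ring)
      exact not_dvd_one hr (of_bez (A := 8) (B := -4 * b + 3) hd h1 (by ring))
    rcases c r hr hd hrp with h | h
    · have h1 : (r : ℤ) ∣ 2 * (2 * b + 1) := of_bez (A := -(2 * b ^ 2 + 2 * b + 2)) (B := 1) hd h (by ring)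
      exact not_dvd_one hr (of_bez (A := -2) (B := 2 * b - 1) hd (h2' h1) (by ring))
    · have h1 : (r : ℤ) ∣ 2 * (2 * (b + 1)) := of_bez (A := -(2 * b ^ 2 + 2 * b + 2)) (B := 1) hd h (by ring)
      exact not_dvd_one hr (of_bez (A := 1) (B := -2 * (b - 1)) hd (h2' (h2' h1)) (by ring))
  · have hrp : r ≠ p := by
      rintro rfl
      have h1 : (r : ℤ) ∣ -4 * b + 3 := of_bez (A := -(2 * b ^ 2 - 2 * b + 2)) (B := 1) hd hdN (by ring)
      exact not_dvd_one hr (of_bez (A := 8) (B := 4 * b + 3) hd h1 (by ring))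
    rcases c r hr hd hrp with h | h
    · have h1 : (r : ℤ) ∣ 2 * (-2 * b + 1) := of_bez (A := -(2 * b ^ 2 - 2 * b + 2)) (B := 1) hd h (by ring)
      exact not_dvd_one hr (of_bez (A := -2) (B := -2 * b - 1) hd (h2' h1) (by ring))
    · have h1 : (r : ℤ) ∣ 2 * (2 * (-b + 1)) := of_bez (A := -(2 * b ^ 2 - 2 * b + 2)) (B := 1) hd h (by ring)
      exact not_dvd_one hr (of_bez (A := 1) (B := -2 * (-b - 1)) hd (h2' (h2' h1)) (by ring))

theorem seven_pow_mod16 (k : ℕ) : (7 : ℤ) ^ k % 16 = 1 ∨ (7 : ℤ) ^ k % 16 = 7 := by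
  induction k with
  | zero => left; rfl
  | succ k ih => rw [pow_succ]; omega

/-- numerics for `Sz(q)`, `t ^ 2 = 2 q`, `t = 2 ^ (k + 1)`, `k ≥ 1` -/
theorem num_Sz {p : ℕ} (hp : p.Prime) (h17 : 17 ≤ p) {k : ℕ} (hk : 1 ≤ k) {q t N : ℤ} (hq : q = 2 * 4 ^ k)
    (ht : t = 2 * 2 ^ k) (hdN : (p : ℤ) ∣ N) (hN : N = q - 1 ∨ N = q + t + 1 ∨ N = q - t + 1)
    (c1 : Cg p N (q - 1)) (cp : Cg p N (q + t + 1)) (cm : Cg p N (q - t + 1)) : False := by
  have hb : (2 : ℤ) ≤ 2 ^ k := by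
    calc (2 : ℤ) = 2 ^ 1 := by norm_num
      _ ≤ 2 ^ k := pow_le_pow_right₀ (by norm_num) hk
  have h4 : (4 : ℤ) ^ k = 2 ^ k * 2 ^ k := by rw [← mul_pow]; norm_num
  obtain ⟨b, hbdef⟩ : ∃ b : ℤ, b = 2 ^ k := ⟨_, rfl⟩
  rw [← hbdef] at hb ht h4
  have hq' : q = 2 * (b * b) := by rw [hq, h4]
  have hqt : 2 * q = t * t := by rw [hq', ht]; ring
  have hodd : ∀ {x : ℤ}, x % 2 = 1 → ∀ r : ℕ, r.Prime → (r : ℤ) ∣ x → r ≠ 2 := by
    rintro x hx r hr hd rfl
    push_cast at hd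
    omega
  rcases hN with rfl | hN
  · -- `N = q - 1`
    obtain ⟨r, hr, hr2, hd⟩ := exists_odd_prime_int (x := q + t + 1) (by nlinarith) (by rw [hq', ht]; omega)
    obtain ⟨s, hs, hs2, hd'⟩ := exists_odd_prime_int (x := q - t + 1) (by nlinarith) (by rw [hq', ht]; omega)
    have h1 : ∀ {r : ℕ} (_ : r.Prime) (_ : r ≠ 2) {e : ℤ} (_ : e = t ∨ e = -t) (_ : (r : ℤ) ∣ q + e + 1)
        (_ : r ≠ p → (r : ℤ) ∣ q - 1 - 1 ∨ (r : ℤ) ∣ q - 1 + 1), r = 5 := by
      intro r hr hr2 e he hd hc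
      have hee : e * e = 2 * q := by rcases he with rfl | rfl <;> linarith
      have h2 : (r : ℤ) ∣ 2 → False := fun h => hr2 (eq_of_dvd hr Nat.prime_two h)
      have hrp : r ≠ p := by
        rintro rfl
        have h5 : (r : ℤ) ∣ e + 2 := of_bez (A := 1) (B := -1) hd hdN (by ring)
        have h6 : (r : ℤ) ∣ 2 := of_bez (A := 2) (B := -e) hd h5 (by linear_combination (-1) * hee)
        exact h2 h6
      rcases hc hrp with h | h
      · have h5 : (r : ℤ) ∣ e + 3 := of_bez (A := 1) (B := -1) hd h (by ring)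
        exact eq_of_dvd hr (by norm_num) (of_bez (A := 2) (B := -e + 1) (c := 5) hd h5 (by linear_combination (-1) * hee))
      · have h5 : (r : ℤ) ∣ e + 1 := of_bez (A := 1) (B := -1) hd h (by ring)
        exact (not_dvd_one hr (of_bez (A := 2) (B := -e - 1) (c := 1) hd h5 (by linear_combination (-1) * hee))).elim
    have e1 := h1 hr hr2 (Or.inl rfl) hd (cp r hr hd)
    have e2 := h1 hs hs2 (Or.inr rfl) (by rw [← sub_eq_add_neg]; exact hd') (cm s hs hd')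
    subst e1 e2
    have h5 : ((5 : ℕ) : ℤ) ∣ 2 * t := of_bez (A := 1) (B := -1) hd hd' (by ring)
    rw [ht, hbdef] at h5
    have h5' : (5 : ℤ) ∣ 2 ^ (k + 2) := by
      have : (2 : ℤ) ^ (k + 2) = 2 * (2 * 2 ^ k) := by ring
      rw [this]
      exact_mod_cast h5
    have h6 := (Nat.prime_iff_prime_int.1 (by norm_num : Nat.Prime 5)).dvd_of_dvd_pow (by exact_mod_cast h5' : ((5 : ℕ) : ℤ) ∣ 2 ^ (k + 2))
    norm_num at h6
  · -- `N = q ± t + 1`
    obtain ⟨e, he, rfl⟩ : ∃ e : ℤ, (e = t ∨ e = -t) ∧ N = q + e + 1 := by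
      rcases hN with h | h
      · exact ⟨t, Or.inl rfl, h⟩
      · exact ⟨-t, Or.inr rfl, by rw [h]; ring⟩
    have hee : e * e = 2 * q := by rcases he with rfl | rfl <;> linarith
    have h1 : ∃ j : ℕ, q - 1 = ((7 : ℕ) : ℤ) ^ j := by
      refine pow_of_primes (by nlinarith) fun r hr hd => ?_
      have hr2 := hodd (x := q - 1) (by rw [hq']; omega) r hr hd
      have h2 : (r : ℤ) ∣ 2 → False := fun h => hr2 (eq_of_dvd hr Nat.prime_two h)
      have hrp : r ≠ p := by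
        rintro rfl
        have h5 : (r : ℤ) ∣ e + 2 := of_bez (A := -1) (B := 1) hd hdN (by ring)
        exact h2 (of_bez (A := -2) (B := e - 2) (c := -2) hd h5 (by linear_combination hee) |>.neg_right.trans (by norm_num))
      rcases c1 r hr hd hrp with h | h
      · have h5 : (r : ℤ) ∣ e + 1 := of_bez (A := -1) (B := 1) hd h (by ring)
        exact (not_dvd_one hr (of_bez (A := 2) (B := -e + 1) (c := -1) hd h5 (by linear_combination (-1) * hee) |>.neg_right.trans (by norm_num))).elim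
      · have h5 : (r : ℤ) ∣ e + 3 := of_bez (A := -1) (B := 1) hd h (by ring)
        exact eq_of_dvd hr (by norm_num) (of_bez (A := -2) (B := e - 3) (c := -7) hd h5 (by linear_combination hee) |>.neg_right.trans (by norm_num))
    obtain ⟨j, hj⟩ := h1
    push_cast at hj
    rcases Nat.lt_or_ge k 2 with hk2 | hk2
    · obtain rfl : k = 1 := by omega
      norm_num at hbdef
      subst hbdef
      norm_num at ht hq'
      subst ht hq'
      have hsmall : ∀ {c : ℕ}, c.Prime → c < 17 → (p : ℤ) ∣ c → False := fun hc hlt h => by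
        have := eq_of_dvd hp hc h
        omega
      rcases he with rfl | rfl
      · exact hsmall (c := 13) (by norm_num) (by norm_num) (by norm_num at hdN ⊢; exact hdN)
      · exact hsmall (c := 5) (by norm_num) (by norm_num) (by norm_num at hdN ⊢; exact hdN)
    · obtain ⟨l, rfl⟩ : ∃ l, k = l + 2 := ⟨k - 2, by omega⟩
      have h16 := seven_pow_mod16 j
      rw [← hj, hq] at h16
      have e16 : (2 : ℤ) * 4 ^ (l + 2) = 32 * 4 ^ l := by rw [pow_add]; ring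
      rw [e16] at h16
      omega

/-- numerics for `Ree(q)`: an odd prime dividing `q - 1` -/
theorem num_Ree {p : ℕ} {q t N : ℤ} (hqt : t * t = 3 * q) (hq : q % 4 = 3) (hq3 : 3 < q) (h3 : q % 3 = 0)
    (hdN : (p : ℤ) ∣ N) (hN : N = q + t + 1 ∨ N = q - t + 1) (c1 : Cg p N (q - 1)) : False := by
  obtain ⟨x, hx⟩ : ∃ x, q - 1 = 2 * x := ⟨(q - 1) / 2, by omega⟩
  obtain ⟨r, hr, hr2, hdx⟩ := exists_odd_prime_int (x := x) (by omega) (by omega)
  have hd : (r : ℤ) ∣ q - 1 := by rw [hx]; exact Dvd.dvd.mul_left hdx 2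
  have h2 : (r : ℤ) ∣ 2 → False := fun h => hr2 (eq_of_dvd hr Nat.prime_two h)
  obtain ⟨e, he, rfl⟩ : ∃ e : ℤ, (e = t ∨ e = -t) ∧ N = q + e + 1 := by
    rcases hN with h | h
    · exact ⟨t, Or.inl rfl, h⟩
    · exact ⟨-t, Or.inr rfl, by rw [h]; ring⟩
  have hee : e * e = 3 * q := by rcases he with rfl | rfl <;> linarith
  have hr3 : r ≠ 3 := by
    rintro rfl
    push_cast at hd
    omega
  have hrp : r ≠ p := by
    rintro rfl
    have h5 : (r : ℤ) ∣ e + 2 := of_bez (A := -1) (B := 1) hd hdN (by ring)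
    exact not_dvd_one hr (of_bez (A := 3) (B := -e + 2) (c := 1) hd h5 (by linear_combination (-1) * hee))
  rcases c1 r hr hd hrp with h | h
  · have h5 : (r : ℤ) ∣ e + 1 := of_bez (A := -1) (B := 1) hd h (by ring)
    exact h2 (of_bez (A := -3) (B := e - 1) (c := 2) hd h5 (by linear_combination hee))
  · have h5 : (r : ℤ) ∣ e + 3 := of_bez (A := -1) (B := 1) hd h (by ring)
    have h6 : (r : ℤ) ∣ 2 * 3 := of_bez (A := 3) (B := -e + 3) (c := 2 * 3) hd h5 (by linear_combination (-1) * hee)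
    rcases (Nat.prime_iff_prime_int.1 hr).dvd_or_dvd h6 with h7 | h7
    · exact h2 h7
    · exact hr3 (eq_of_dvd hr Nat.prime_three h7)

/-- `3 ^ j` modulo `13` -/
theorem three_pow_mod13 (j : ℕ) : (3 : ℤ) ^ (3 * j + 1) % 13 = 3 := by
  induction j with
  | zero => rfl
  | succ j ih =>
    have e : (3 : ℤ) ^ (3 * (j + 1) + 1) = 27 * 3 ^ (3 * j + 1) := by
      rw [show 3 * (j + 1) + 1 = 3 + (3 * j + 1) by ring, pow_add]; ring
    rw [e]
    omega

/-- numerics for `PΩ⁻(2 m, 3)`: the prime `13` -/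
theorem num_OM {p : ℕ} (h13 : p ≠ 13) {X N : ℤ} (hX : X % 13 = 3) (hN : 2 * N = X + 1 ∨ 4 * N = 3 * X + 1)
    (c : Cg p N 13) : False := by
  rcases c 13 (by norm_num) (by norm_num) h13.symm with h | h <;> push_cast at h <;> omega

/-! ### `PSL₂` -/

/-- `n` is a power of `3` bigger than `5` -/
theorem nine_dvd {n : ℕ} (hn : 5 < n) (h : ∀ r : ℕ, r.Prime → r ∣ n → r = 3) : 9 ∣ n := by
  have h2 := Nat.eq_prime_pow_of_unique_prime_dvd (n := n) (by omega) (fun {d} hd hdd => h d hd hdd)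
  generalize n.primeFactorsList.length = k at h2
  rcases k with _ | _ | k
  · norm_num at h2; omega
  · norm_num at h2; omega
  · rw [h2]
    exact Dvd.intro_left (3 ^ k) (by ring)

/-- `p ^ 2 ≡ 1` modulo `9` and `N = p ^ a` -/
theorem sq_mod {p : ℕ} {d : ℤ} (h : d ∣ (p : ℤ) ^ 2 - 1) {N : ℤ} (hN : ∃ a : ℕ, N = (p : ℤ) ^ a) : d ∣ N ^ 2 - 1 := by
  obtain ⟨a, rfl⟩ := hN
  refine h.trans ?_
  rw [← pow_mul, mul_comm a 2, pow_mul]
  have := sub_dvd_pow_sub_pow ((p : ℤ) ^ 2) 1 a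
  rwa [one_pow] at this

end Cfsg.Agent.H432.PG.Num
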