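import Cfsg.Agent.H432.PG.Base
import Cfsg.Agent.H432.PG.Num
import Cfsg.Agent.H390.PslSpec
import Cfsg.Agent.S2904

/-!
# `PSL_2(q)` with the prime graph of `PSL_2(p)`: `q = p` (helper432)
-/

set_option autoImplicit false

namespace Cfsg.Agent.H432.PG

open Cfsg.Agent.H94

section

variable {F : Type*} [Field F] [Fintype F] {p n m : ℕ}

/-- existence of elements of the orders -/
theorem psl_orders (s : ℕ) [Fact s.Prime] [CharP F s] (hF : 4 ≤ Fintype.card F) (k : ℕ) :
    (∃ g : Matrix.ProjectiveSpecialLinearGroup (Fin 2) F, orderOf g = k) ↔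
      (k ∣ s ∨ k ∣ (Fintype.card F - 1) / H390.PslSpec.dd (Fintype.card F) ∨
        k ∣ (Fintype.card F + 1) / H390.PslSpec.dd (Fintype.card F)) := by
  have h := H390.PslSpec.range_orderOf (F := F) (p := s) hF
  have h1 : k ∈ Set.range (orderOf : Matrix.ProjectiveSpecialLinearGroup (Fin 2) F → ℕ) ↔ k ∈ H390.PslSpec.specSet s (Fintype.card F) := by
    rw [h]
  simpa [H390.PslSpec.specSet] using h1

/-- `q` even -/
theorem psl_even (hF : 4 ≤ Fintype.card F) (he : Even (Fintype.card F))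
    (B : PB (Matrix.ProjectiveSpecialLinearGroup (Fin 2) F) p n m) : False := by
  obtain ⟨s, hs⟩ := CharP.exists F
  obtain ⟨g, hsp, hsg⟩ := FiniteField.card F s
  have hs2 : s = 2 := by
    have heven : Even (s ^ (g : ℕ)) := by rw [← hsg]; exact he
    exact (hsp.even_iff).mp (Nat.even_pow.mp heven).1
  subst hs2
  have := Fact.mk Nat.prime_two
  have hord := psl_orders (F := F) 2 hF
  rw [H390.PslSpec.dd_even he (by omega), Nat.div_one, Nat.div_one] at hord
  set q := Fintype.card F with hq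
  have hp17 := B.p_ge
  have hp := B.A.hp
  have hqe : q % 2 = 0 := Nat.even_iff.1 he
  -- primes of the group order
  have hcase : ∀ r : ℕ, r.Prime → r ≠ 2 → r ∣ Nat.card (Matrix.ProjectiveSpecialLinearGroup (Fin 2) F) →
      r ∣ q - 1 ∨ r ∣ q + 1 := by
    intro r hr hr2 hd
    have := Fact.mk hr
    obtain ⟨x, hx⟩ := exists_prime_orderOf_dvd_card' r hd
    rcases (hord r).1 ⟨x, hx⟩ with h | h
    · exact absurd ((Nat.prime_dvd_prime_iff_eq hr Nat.prime_two).1 h) hr2
    · exact h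
  have hexd : ∀ k : ℕ, (k ∣ q - 1 ∨ k ∣ q + 1) → k ∣ Nat.card (Matrix.ProjectiveSpecialLinearGroup (Fin 2) F) := by
    intro k hk
    obtain ⟨x, hx⟩ := (hord k).2 (Or.inr hk)
    rw [← hx]
    exact orderOf_dvd_natCard _
  obtain ⟨N, M, hNM, hN, hM, hpN⟩ : ∃ N M : ℕ, ((N = M + 2) ∨ (M = N + 2)) ∧ (N = q - 1 ∨ N = q + 1) ∧
      (M = q - 1 ∨ M = q + 1) ∧ p ∣ N := by
    rcases hcase p hp (by omega) B.dp with h | h
    · exact ⟨q - 1, q + 1, Or.inr (by omega), Or.inl rfl, Or.inr rfl, h⟩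
    · exact ⟨q + 1, q - 1, Or.inl (by omega), Or.inr rfl, Or.inl rfl, h⟩
  have hNp := Nat.le_of_dvd (by omega) hpN
  have hNo : (∃ g : Matrix.ProjectiveSpecialLinearGroup (Fin 2) F, orderOf g = N) := (hord N).2 (Or.inr (by
    rcases hN with h | h
    · exact Or.inl (dvd_of_eq h)
    · exact Or.inr (dvd_of_eq h)))
  have hpow := B.pow_eq hNo hpN
  have hodd : ∀ {r : ℕ}, (r ∣ N ∨ r ∣ M) → r ≠ 2 := by
    rintro r h rfl
    omega
  have key3 : ∀ r : ℕ, r.Prime → r ∣ M → r = 3 := by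
    intro r hr hrM
    have hr2 := hodd (Or.inr hrM)
    have hrp : r ≠ p := by
      rintro rfl
      have h2 : r ∣ 2 := by
        rcases hNM with h | h
        · exact (Nat.dvd_add_right hrM).1 (h ▸ hpN)
        · exact (Nat.dvd_add_right hpN).1 (h ▸ hrM)
      exact hr2 ((Nat.prime_dvd_prime_iff_eq hr Nat.prime_two).1 h2)
    have h1 := B.pm hpow hr (hexd r (by
      rcases hM with h | h
      · exact Or.inl (h ▸ hrM)
      · exact Or.inr (h ▸ hrM))) hrp
    have hrM' : (r : ℤ) ∣ M := Int.natCast_dvd_natCast.2 hrM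
    refine Num.eq_of_dvd hr Nat.prime_three ?_
    rcases hNM with h | h
    · have e : (N : ℤ) = M + 2 := by exact_mod_cast h
      rw [e] at h1
      exact Num.of_bez (A := -((M : ℤ) + 4)) (B := 1) hrM' h1 (by push_cast; ring)
    · have e : (M : ℤ) = N + 2 := by exact_mod_cast h
      rw [e] at hrM'
      exact Num.of_bez (A := -((N : ℤ) - 2)) (B := 1) hrM' h1 (by push_cast; ring)
  have h9M := Num.nine_dvd (n := M) (by omega) key3
  have h9n := Num.nine_dvd B.A.n_pos (by
    intro r hr hrn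
    have hr2 := B.ne_two hrn
    rcases hcase r hr hr2 (B.dn r hr hrn) with h | h
    · rcases hM with h' | h'
      · exact key3 r hr (h' ▸ h)
      · have hrN : r ∣ N := by
          have : N = q - 1 := by omega
          rw [this]; exact h
        have := B.A.not_p_dvd_n
        obtain ⟨a, ha⟩ := hpow
        rw [ha] at hrN
        exact absurd ((Nat.prime_dvd_prime_iff_eq hr hp).1 (hr.dvd_of_dvd_pow hrN) ▸ hrn) this
    · rcases hM with h' | h'
      · have hrN : r ∣ N := by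
          have : N = q + 1 := by omega
          rw [this]; exact h
        have := B.A.not_p_dvd_n
        obtain ⟨a, ha⟩ := hpow
        rw [ha] at hrN
        exact absurd ((Nat.prime_dvd_prime_iff_eq hr hp).1 (hr.dvd_of_dvd_pow hrN) ▸ hrn) this
      · exact key3 r hr (h' ▸ h))
  have h9p : (9 : ℤ) ∣ (p : ℤ) ^ 2 - 1 := by
    rw [B.A.sq_eq]
    have : (9 : ℤ) ∣ (n : ℤ) := by exact_mod_cast h9n
    exact Dvd.dvd.mul_right (Dvd.dvd.mul_left this 4) _
  have h9N := Num.sq_mod (p := p) h9p (N := (N : ℤ)) (by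
    obtain ⟨a, ha⟩ := hpow
    exact ⟨a, by rw [ha]; push_cast; ring⟩)
  have h9M' : (9 : ℤ) ∣ M := by exact_mod_cast h9M
  have h93 : (9 : ℤ) ∣ 3 := by
    rcases hNM with h | h
    · have e : (N : ℤ) = M + 2 := by exact_mod_cast h
      rw [e] at h9N
      have := dvd_sub h9N (Dvd.dvd.mul_left h9M' ((M : ℤ) + 4))
      ring_nf at this
      exact this
    · have e : (M : ℤ) = N + 2 := by exact_mod_cast h
      rw [e] at h9M'
      have := dvd_sub h9N (Dvd.dvd.mul_left h9M' ((N : ℤ) - 2))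
      ring_nf at this
      exact this
  norm_num at h93

/-- `q` odd -/
theorem psl_odd (hF : 4 ≤ Fintype.card F) (ho : Odd (Fintype.card F))
    (B : PB (Matrix.ProjectiveSpecialLinearGroup (Fin 2) F) p n m) : Fintype.card F = p := by
  obtain ⟨s, hs⟩ := CharP.exists F
  obtain ⟨⟨f, hf⟩, hsp, hsg⟩ := FiniteField.card F s
  have := Fact.mk hsp
  have hord := psl_orders (F := F) s hF
  rw [H390.PslSpec.dd_odd ho] at hord
  simp only [PNat.mk_coe] at hsg
  set q := Fintype.card F with hq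
  have hp17 := B.p_ge
  have hp := B.A.hp
  have hqo : q % 2 = 1 := Nat.odd_iff.1 ho
  -- the odd number `T` and the even number `T'`
  obtain ⟨T, T', hTT, hT, hT'⟩ : ∃ T T' : ℕ, ((2 * T = q + 1 ∧ 2 * T' = q - 1) ∨ (2 * T = q - 1 ∧ 2 * T' = q + 1)) ∧
      T % 2 = 1 ∧ T' % 2 = 0 := by
    rcases (by omega : q % 4 = 1 ∨ q % 4 = 3) with h | h
    · exact ⟨(q + 1) / 2, (q - 1) / 2, Or.inl (by omega), by omega, by omega⟩
    · exact ⟨(q - 1) / 2, (q + 1) / 2, Or.inr (by omega), by omega, by omega⟩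
  have hord' : ∀ k : ℕ, (∃ g : Matrix.ProjectiveSpecialLinearGroup (Fin 2) F, orderOf g = k) ↔
      (k ∣ s ∨ k ∣ T ∨ k ∣ T') := by
    intro k
    rw [hord]
    rcases hTT with ⟨h1, h2⟩ | ⟨h1, h2⟩
    · rw [show (q - 1) / 2 = T' by omega, show (q + 1) / 2 = T by omega]
      tauto
    · rw [show (q - 1) / 2 = T by omega, show (q + 1) / 2 = T' by omega]
  have hcase : ∀ r : ℕ, r.Prime → r ∣ Nat.card (Matrix.ProjectiveSpecialLinearGroup (Fin 2) F) →
      ¬ H94.PG.Conn (Matrix.ProjectiveSpecialLinearGroup (Fin 2) F) 2 r → r = s ∨ r ∣ T := by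
    intro r hr hd hnc
    have := Fact.mk hr
    obtain ⟨x, hx⟩ := exists_prime_orderOf_dvd_card' r hd
    rcases (hord' r).1 ⟨x, hx⟩ with h | h | h
    · exact Or.inl ((Nat.prime_dvd_prime_iff_eq hr hsp).1 h)
    · exact Or.inr h
    · exfalso
      obtain ⟨y, hy⟩ := (hord' T').2 (Or.inr (Or.inr dvd_rfl))
      exact hnc (H94.PG.conn_of_orderOf Nat.prime_two hr (x := y) (by rw [hy]; omega) (by rw [hy]; exact h))
  have hexd : ∀ k : ℕ, (k ∣ s ∨ k ∣ T ∨ k ∣ T') →
      k ∣ Nat.card (Matrix.ProjectiveSpecialLinearGroup (Fin 2) F) := by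
    intro k hk
    obtain ⟨x, hx⟩ := (hord' k).2 hk
    rw [← hx]
    exact orderOf_dvd_natCard _
  by_cases hsp' : p = s
  · -- the characteristic is `p`
    subst hsp'
    rcases Nat.lt_or_ge f 2 with h | h
    · obtain rfl : f = 1 := by omega
      rw [hsg, pow_one]
    · exfalso
      obtain ⟨z, hz, hzd, hzk⟩ := Cfsg.Agent.S2904.result p (2 * f) hp.one_lt (by omega) (by omega) (by omega)
      have hz2 : ¬ z ∣ p ^ 2 - 1 := hzk 2 (by omega) (by omega)
      have hzq : z ∣ (q - 1) * (q + 1) := by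
        have e : p ^ (2 * f) - 1 = (q + 1) * (q - 1) := by
          rw [mul_comm, pow_mul, ← hsg]
          have := Nat.sq_sub_sq q 1
          rw [one_pow] at this
          exact this
        rw [e, mul_comm] at hzd
        exact hzd
      have hz22 : z ≠ 2 := by
        rintro rfl
        apply hz2
        have := B.A.odd_p
        have h1 : (p ^ 2) % 2 = 1 := by rw [Nat.pow_mod, this]
        omega
      have hzT : z ∣ T ∨ z ∣ T' := by
        have e : (q - 1) * (q + 1) = 2 ^ 2 * (T * T') := by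
          rcases hTT with ⟨h1, h2⟩ | ⟨h1, h2⟩
          · rw [← h1, ← h2]; ring
          · rw [← h1, ← h2]; ring
        rw [e] at hzq
        rcases hz.dvd_mul.1 hzq with h1 | h1
        · exact absurd ((Nat.prime_dvd_prime_iff_eq hz Nat.prime_two).1 (hz.dvd_of_dvd_pow h1)) hz22
        · exact hz.dvd_mul.1 h1
      have hzp : z ≠ p := by
        rintro rfl
        have h1 : z ∣ z ^ (2 * f) := dvd_pow_self z (by omega)
        have h2 : 1 ≤ z ^ (2 * f) := Nat.one_le_pow _ _ hz.pos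
        have h3 := (Nat.dvd_sub_iff_right h2 h1).1 hzd
        exact hz.one_lt.ne' (Nat.dvd_one.1 h3)
      have h1 := B.dvd_sq hz (hexd z (Or.inr hzT)) hzp
      apply hz2
      have h2 : 1 ≤ p ^ 2 := Nat.one_le_pow _ _ hp.pos
      have h3 : ((p ^ 2 - 1 : ℕ) : ℤ) = (p : ℤ) ^ 2 - 1 := by push_cast [Nat.cast_sub h2]; ring
      rw [← h3] at h1
      exact Int.natCast_dvd_natCast.1 h1
  · exfalso
    have hpT : p ∣ T := (hcase p hp B.dp B.not_conn_p).resolve_left hsp'
    have hpow := B.pow_eq ((hord' T).2 (Or.inr (Or.inl dvd_rfl))) hpT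
    have hns : ∀ r : ℕ, r.Prime → r ∣ n → r = s := by
      intro r hr hrn
      rcases hcase r hr (B.dn r hr hrn) (B.not_conn_n hrn) with h | h
      · exact h
      · obtain ⟨a, ha⟩ := hpow
        rw [ha] at h
        exact absurd ((Nat.prime_dvd_prime_iff_eq hr hp).1 (hr.dvd_of_dvd_pow h) ▸ hrn) B.A.not_p_dvd_n
    have hsq : s ∣ q := by rw [hsg]; exact dvd_pow_self s hf.ne'
    have hsq' : (s : ℤ) ∣ q := Int.natCast_dvd_natCast.2 hsq
    have h4 : (4 : ℤ) * ((T : ℤ) ^ 2 - 1) = (q : ℤ) ^ 2 + 2 * q - 3 ∨ (4 : ℤ) * ((T : ℤ) ^ 2 - 1) = (q : ℤ) ^ 2 - 2 * q - 3 := by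
      rcases hTT with ⟨h1, -⟩ | ⟨h1, -⟩
      · left
        have : (2 : ℤ) * T = q + 1 := by exact_mod_cast h1
        have e : (4 : ℤ) * ((T : ℤ) ^ 2 - 1) = (2 * T) ^ 2 - 4 := by ring
        rw [e, this]; ring
      · right
        have : (2 : ℤ) * T = q - 1 := by
          have h2 : 2 * T + 1 = q := by omega
          have : (2 : ℤ) * T + 1 = q := by exact_mod_cast h2
          linarith
        have e : (4 : ℤ) * ((T : ℤ) ^ 2 - 1) = (2 * T) ^ 2 - 4 := by ring
        rw [e, this]; ring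
    have hs3 : s = 3 := by
      have h1 := B.pm hpow hsp (hexd s (Or.inl dvd_rfl)) (Ne.symm hsp')
      refine Num.eq_of_dvd hsp Nat.prime_three ?_
      rcases h4 with h4 | h4
      · exact Num.of_bez (A := (q : ℤ) + 2) (B := -4) hsq' h1 (by push_cast; linear_combination (-1) * h4)
      · exact Num.of_bez (A := (q : ℤ) - 2) (B := -4) hsq' h1 (by push_cast; linear_combination (-1) * h4)
    subst hs3
    have h9n := Num.nine_dvd B.A.n_pos hns
    have h9p : (9 : ℤ) ∣ (p : ℤ) ^ 2 - 1 := by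
      rw [B.A.sq_eq]
      have : (9 : ℤ) ∣ (n : ℤ) := by exact_mod_cast h9n
      exact Dvd.dvd.mul_right (Dvd.dvd.mul_left this 4) _
    have h9N := Num.sq_mod (p := p) h9p (N := (T : ℤ)) (by
      obtain ⟨a, ha⟩ := hpow
      exact ⟨a, by rw [ha]; push_cast; ring⟩)
    have h9q : (9 : ℤ) ∣ q := by
      obtain ⟨f', rfl⟩ : ∃ f', f = f' + 2 := by
        refine ⟨f - 2, ?_⟩
        have : f ≠ 1 := by
          rintro rfl
          rw [pow_one] at hsg
          omega
        omega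
      rw [hsg]
      push_cast
      exact Dvd.intro_left ((3 : ℤ) ^ f') (by ring)
    have h93 : (9 : ℤ) ∣ 3 := by
      rcases h4 with h4 | h4
      · have h1 := dvd_sub (Dvd.dvd.mul_left h9q ((q : ℤ) + 2)) (Dvd.dvd.mul_left h9N 4)
        have e : ((q : ℤ) + 2) * q - 4 * ((T : ℤ) ^ 2 - 1) = 3 := by linear_combination (-1) * h4
        rwa [e] at h1
      · have h1 := dvd_sub (Dvd.dvd.mul_left h9q ((q : ℤ) - 2)) (Dvd.dvd.mul_left h9N 4)
        have e : ((q : ℤ) - 2) * q - 4 * ((T : ℤ) ^ 2 - 1) = 3 := by linear_combination (-1) * h4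
        rwa [e] at h1
    norm_num at h93

/-- **`PSL_2(q)`** -/
theorem psl_card (hF : 4 ≤ Fintype.card F) (B : PB (Matrix.ProjectiveSpecialLinearGroup (Fin 2) F) p n m) :
    Fintype.card F = p := by
  rcases Nat.even_or_odd (Fintype.card F) with h | h
  · exact (psl_even hF h B).elim
  · exact psl_odd hF h B

end

end Cfsg.Agent.H432.PG
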