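import Cfsg.Agent.H432.PG.Exc
import Cfsg.Agent.H432.PG.Lin
import Cfsg.Agent.H371.Core.TwF4
import Cfsg.Agent.H371.Core.SzRee
import Cfsg.Agent.H371.Core.OMinus
import Cfsg.Agent.H371.Core.ExcTwo
import Cfsg.Agent.H371.Core.Classical
import Cfsg.Agent.H371.Core.Alt
import Cfsg.Agent.H371.PslThree

/-!
# The other families do not have the prime graph of `PSL_2(p)` (helper432)
-/

set_option autoImplicit false
set_option linter.unusedSectionVars false

namespace Cfsg.Agent.H432.PG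

open Cfsg Cfsg.Lie Cfsg.Lie.ChevalleyDatum
open Cfsg.Agent.H371.Core
open Cfsg.Agent.H94

/-! ### alternating groups -/

/-- **No alternating group.** -/
theorem not_alt {k : ℕ} {p n m : ℕ} (B : PB (alternatingGroup (Fin k)) p n m) : False := by
  have hk : p ≤ k := by
    have h2 : 2 ≤ k := by
      by_contra hlt
      have hs : Nat.card (alternatingGroup (Fin k)) = 1 := by
        have : Subsingleton (Fin k) := by
          rcases (by omega : k = 0 ∨ k = 1) with rfl | rfl <;> infer_instance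
        have : Subsingleton (Equiv.Perm (Fin k)) := inferInstance
        have : Subsingleton (alternatingGroup (Fin k)) := inferInstance
        exact Nat.card_unique
      have := B.dp
      rw [hs] at this
      exact B.A.hp.one_lt.ne' (Nat.dvd_one.1 this)
    exact (B.A.hp.dvd_factorial).1 (B.dp.trans (card_alt_dvd h2))
  obtain ⟨r, hr, hrn⟩ := B.exists_prime
  have hr2 := B.ne_two hrn
  have hodd : r % 2 = 1 := hr.eq_two_or_odd.resolve_left hr2
  have hle := Nat.le_of_dvd (by have := B.A.n_pos; omega) hrn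
  have h17 := B.p_ge
  have hA := B.A.h
  have hr2' := hr.two_le
  obtain ⟨g, hg⟩ := exists_alt (k := k) {r, 2, 2} (by simp; omega) (by
    intro a ha
    simp at ha
    rcases ha with rfl | rfl
    · exact hr2'
    · exact le_rfl) (by
    rw [Nat.even_iff]
    simp
    omega)
  refine B.not_conn_n hrn (H94.PG.conn_of_orderOf Nat.prime_two hr (x := g) ?_ ?_)
  · rw [hg]; exact Multiset.dvd_lcm (by simp)
  · rw [hg]; exact Multiset.dvd_lcm (by simp)

/-! ### Suzuki groups -/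

theorem not_sz' {F : Type*} [Field F] [Fintype F] {k : ℕ} (hk : 1 ≤ k) (hF : Fintype.card F = 2 ^ (2 * k + 1))
    {p n m : ℕ} (B : PB ↥(Cfsg.Sz F k) p n m) : False := by
  have hcard := Cfsg.Agent.S0324.result hk hF
  set q := 2 ^ (2 * k + 1) with hq
  set t := 2 ^ (k + 1) with ht
  have hq2 : 2 ≤ q := by rw [hq]; exact Nat.le_self_pow (by omega) 2
  have htq : t * t = 2 * q := by
    rw [ht, hq, ← pow_add, ← pow_succ']
    congr 1
    omega
  have ht2 : 2 ≤ t := by rw [ht]; exact Nat.le_self_pow (by omega) 2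
  have hlt : t ≤ q := by nlinarith
  have hfin : Finite ↥(Cfsg.Sz F k) := Nat.finite_of_card_ne_zero (by
    rw [hcard]
    have h1 : 0 < q ^ 2 * (q ^ 2 + 1) * (q - 1) := by
      apply Nat.mul_pos (Nat.mul_pos (by positivity) (by positivity)) (by omega)
    omega)
  have key : ∀ x : ↥(Cfsg.Sz F k), x ≠ 1 → ¬ 2 ∣ orderOf x →
      ∃ T, (T = q - 1 ∨ T = q + t + 1 ∨ T = q - t + 1) ∧ orderOf x ∣ T ∧ ∃ g : ↥(Cfsg.Sz F k), orderOf g = T := by
    intro x hx1 hx2
    obtain ⟨U, ⟨hU, hxU⟩, -⟩ := Cfsg.Agent.S2238.result hk hF x hx1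
    rcases hU with ⟨P, rfl⟩ | ⟨hc, hN⟩
    · exfalso
      obtain ⟨j, hj⟩ := P.isPGroup' ⟨x, hxU⟩
      have h3 : x ^ 2 ^ j = 1 := congrArg Subtype.val hj
      have h4 : orderOf x ∣ 2 ^ j := orderOf_dvd_of_pow_eq_one h3
      obtain ⟨i, -, hi⟩ := (Nat.dvd_prime_pow Nat.prime_two).1 h4
      rcases Nat.eq_zero_or_pos i with h0 | h0
      · rw [h0, pow_zero] at hi
        exact hx1 (orderOf_eq_one_iff.1 hi)
      · exact hx2 (hi ▸ dvd_pow_self 2 h0.ne')
    · refine ⟨Nat.card U, ?_, ?_, ?_⟩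
      · rcases hN with h | h | h
        · exact Or.inl h
        · exact Or.inr (Or.inl h)
        · exact Or.inr (Or.inr h)
      · rw [← Subgroup.orderOf_mk x hxU]
        exact orderOf_dvd_natCard _
      · obtain ⟨u, hu⟩ := hc.exists_generator
        refine ⟨u, ?_⟩
        rw [Subgroup.orderOf_coe]
        exact orderOf_eq_card_of_forall_mem_zpowers hu
  have h17 := B.p_ge
  have := Fact.mk B.A.hp
  obtain ⟨x, hx⟩ := exists_prime_orderOf_dvd_card' p B.dp
  obtain ⟨N, hN, hxN, hgN⟩ := key x (by rintro rfl; rw [orderOf_one] at hx; omega)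
    (by rw [hx]; have := B.A.odd_p; omega)
  rw [hx] at hxN
  have hpow := B.pow_eq hgN hxN
  have hqz : (q : ℤ) = 2 * 4 ^ k := by
    rw [hq]
    push_cast
    rw [pow_succ, pow_mul]
    norm_num
    ring
  have htz : (t : ℤ) = 2 * 2 ^ k := by
    rw [ht]
    push_cast
    rw [pow_succ]
    ring
  have e1 : ((q - 1 : ℕ) : ℤ) = (q : ℤ) - 1 := by push_cast [Nat.cast_sub (by omega : 1 ≤ q)]; ring
  have e2 : ((q - t + 1 : ℕ) : ℤ) = (q : ℤ) - t + 1 := by push_cast [Nat.cast_sub hlt]; ring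
  have hc : ∀ {X : ℕ}, X ∣ q ^ 2 * (q ^ 2 + 1) * (q - 1) → Num.Cg p N X := fun {X} hX =>
    B.cg hpow fun r _ h => by
      rw [hcard]
      exact (Int.natCast_dvd_natCast.1 h).trans hX
  have hpm : (q + t + 1) * (q - t + 1) = q ^ 2 + 1 := by
    have : ((q : ℤ) + t + 1) * (q - t + 1) = q ^ 2 + 1 := by
      have : (t : ℤ) * t = 2 * q := by exact_mod_cast htq
      linear_combination (-1) * this
    rw [← e2] at this
    exact_mod_cast this
  have c1 : Num.Cg p N ((q : ℤ) - 1) := by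
    rw [← e1]
    exact hc (Dvd.intro_left _ rfl)
  have cp : Num.Cg p N ((q : ℤ) + t + 1) := by
    have e3 : ((q + t + 1 : ℕ) : ℤ) = (q : ℤ) + t + 1 := by push_cast; ring
    rw [← e3]
    refine hc (Dvd.dvd.mul_right (Dvd.dvd.mul_left ?_ _) _)
    rw [← hpm]
    exact Dvd.intro _ rfl
  have cm : Num.Cg p N ((q : ℤ) - t + 1) := by
    rw [← e2]
    refine hc (Dvd.dvd.mul_right (Dvd.dvd.mul_left ?_ _) _)
    rw [← hpm]
    exact Dvd.intro_left _ rfl
  refine Num.num_Sz B.A.hp h17 hk (q := q) (t := t) (N := N) hqz htz (Int.natCast_dvd_natCast.2 hxN) ?_ c1 cp cm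
  rcases hN with h | h | h
  · left; rw [h, e1]
  · right; left; rw [h]; push_cast; ring
  · right; right; rw [h, e2]

/-- **No Suzuki group.** -/
theorem not_sz {S : Type*} [Group S] (h : Cfsg.Lie.IsoSuzuki S) {p n m : ℕ} (B : PB S p n m) : False := by
  obtain ⟨F, _, _, k, hk, hF, ⟨e⟩⟩ := h
  obtain ⟨e'⟩ := Cfsg.Agent.OddCyclic.ClaimC.SzIso.iso hk hF
  exact not_sz' hk hF (B.congr (e.trans e'.symm))

/-! ### small Ree groups -/

/-- **No small Ree group.** -/
theorem not_ree {S : Type*} [Group S] (h : Cfsg.Lie.IsoRee S) {p n m : ℕ} (B : PB S p n m) : False := by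
  obtain ⟨K, _, _, k, hk, hK, ⟨e⟩⟩ := h
  have B' := B.congr e
  have h1 := fun d => Cfsg.Agent.S1159.result hk hK d
  have hfin : Finite ↥(Cfsg.Lie.twistedG2 K (3 ^ k)) := inferInstance
  set q := 3 ^ (2 * k + 1) with hq
  set t := 3 ^ (k + 1) with ht
  have htq : t * t = 3 * q := by
    rw [ht, hq, ← pow_add, ← pow_succ']
    congr 1
    omega
  have ht9 : 9 ≤ t := by
    calc 9 = 3 ^ 2 := by norm_num
      _ ≤ 3 ^ (k + 1) := Nat.pow_le_pow_right (by norm_num) (by omega)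
  have hqt : 3 * t ≤ q := by nlinarith
  have hq4 : q % 4 = 3 := by
    rw [hq, pow_succ, pow_mul, Nat.mul_mod, Nat.pow_mod]
    norm_num
  have heven : ∀ {N r : ℕ}, (∃ g : ↥(Cfsg.Lie.twistedG2 K (3 ^ k)), orderOf g = N) → 2 ∣ N → r.Prime → r ∣ N →
      H94.PG.Conn ↥(Cfsg.Lie.twistedG2 K (3 ^ k)) 2 r := by
    rintro N r ⟨g, rfl⟩ h2 hr hrN
    exact H94.PG.conn_of_orderOf Nat.prime_two hr h2 hrN
  have h17 := B.p_ge
  have hp := B.A.hp
  have := Fact.mk hp
  obtain ⟨x, hx⟩ := exists_prime_orderOf_dvd_card' p B'.dp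
  have hmain : p ∣ q - t + 1 ∨ p ∣ q + t + 1 := by
    rcases (h1 p).1 ⟨x, hx⟩ with h | h | h | h | h | h
    · exfalso
      have := Nat.le_of_dvd (by norm_num) h
      omega
    · exfalso
      have := Nat.le_of_dvd (by norm_num) h
      omega
    · exact absurd (heven ((h1 _).2 (Or.inr (Or.inr (Or.inl dvd_rfl)))) (by omega) hp h) B'.not_conn_p
    · exact absurd (heven ((h1 _).2 (Or.inr (Or.inr (Or.inr (Or.inl dvd_rfl))))) (by omega) hp h) B'.not_conn_p
    · exact Or.inl h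
    · exact Or.inr h
  have hg1 := (h1 (q - t + 1)).2 (Or.inr (Or.inr (Or.inr (Or.inr (Or.inl dvd_rfl)))))
  have hg2 := (h1 (q + t + 1)).2 (Or.inr (Or.inr (Or.inr (Or.inr (Or.inr dvd_rfl)))))
  obtain ⟨N, hN, hgN, hpN⟩ : ∃ N, (N = q + t + 1 ∨ N = q - t + 1) ∧
      (∃ g : ↥(Cfsg.Lie.twistedG2 K (3 ^ k)), orderOf g = N) ∧ p ∣ N := by
    rcases hmain with h | h
    · exact ⟨_, Or.inr rfl, hg1, h⟩
    · exact ⟨_, Or.inl rfl, hg2, h⟩
  have hpow := B'.pow_eq hgN hpN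
  have e1 : ((q - 1 : ℕ) : ℤ) = (q : ℤ) - 1 := by push_cast [Nat.cast_sub (by omega : 1 ≤ q)]; ring
  have c1 : Num.Cg p N ((q : ℤ) - 1) := B'.cg hpow fun r hr h => by
    -- `r ∣ q - 1`
    rw [← e1] at h
    have hrq := Int.natCast_dvd_natCast.1 h
    obtain ⟨g, hg⟩ := (h1 _).2 (Or.inr (Or.inr (Or.inl dvd_rfl)))
    have hd := orderOf_dvd_natCard g
    rw [hg] at hd
    exact hrq.trans hd
  refine Num.num_Ree (p := p) (q := q) (t := t) (N := N) (by exact_mod_cast htq) (by exact_mod_cast hq4) (by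
    have : 3 < q := by omega
    exact_mod_cast this) ?_ (Int.natCast_dvd_natCast.2 hpN) ?_ c1
  · have : q % 3 = 0 := by rw [hq, pow_succ]; omega
    exact_mod_cast this
  · rcases hN with h | h
    · left; rw [h]; push_cast; ring
    · right; rw [h]; push_cast [Nat.cast_sub (by omega : t ≤ q)]; ring

/-! ### `²F₄(q)` -/

open TwF4 in
theorem not_2F4' {K : Type*} [Field K] [Fintype K] {k : ℕ} (hk : 1 ≤ k) (hK : Fintype.card K = 2 ^ (2 * k + 1))
    {p n m : ℕ} (B : PB ↥(twistedF4 K (2 ^ k)) p n m) : False := by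
  have hcard := Cfsg.Agent.S1068.result hK
  have hb : (2 : ℤ) ≤ 2 ^ k := by
    calc (2 : ℤ) = 2 ^ 1 := by norm_num
      _ ≤ 2 ^ k := pow_le_pow_right₀ (by norm_num) hk
  generalize hbb : ((2 : ℤ) ^ k) = b at hb
  have hPpos : 0 < H493.PGF4T.fP b := by unfold H493.PGF4T.fP; positivity
  have hMpos : 0 < H493.PGF4T.fM b := by
    unfold H493.PGF4T.fM
    nlinarith [pow_pos (by linarith : (0 : ℤ) < b) 3, mul_pos (pow_pos (by linarith : (0 : ℤ) < b) 3) (by linarith : (0 : ℤ) < b - 1)]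
  obtain ⟨P, hP⟩ : ∃ P : ℕ, (P : ℤ) = H493.PGF4T.fP b := ⟨(H493.PGF4T.fP b).toNat, Int.toNat_of_nonneg hPpos.le⟩
  obtain ⟨M, hM⟩ : ∃ M : ℕ, (M : ℤ) = H493.PGF4T.fM b := ⟨(H493.PGF4T.fM b).toNat, Int.toNat_of_nonneg hMpos.le⟩
  have gP := exists_cert hK H493.PGF4T.chainEp_ok H493.PGF4T.hThEp H493.PGF4T.certEp_fP (N := P) (by rw [hP, hbb])
  have gM := exists_cert hK H493.PGF4T.chainEm_ok H493.PGF4T.hThEm H493.PGF4T.certEm_fM (N := M) (by rw [hM, hbb])
  have hcov : p ∣ P ∨ p ∣ M := by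
    rcases H493.PGF4T.cover (m := k) B.A.hp (by rw [← hcard]; exact B.dp) with h | h | h
    · exact absurd (conn_of_conn (H493.PGF4T.conn_main hk hK B.A.hp h)).symm B.not_conn_p
    · rw [hbb, ← hP] at h
      exact Or.inl (Int.natCast_dvd_natCast.1 h)
    · rw [hbb, ← hM] at h
      exact Or.inr (Int.natCast_dvd_natCast.1 h)
  have hq1 : 1 ≤ 2 ^ (2 * k + 1) := Nat.one_le_two_pow
  have hqb : ((2 ^ (2 * k + 1) - 1 : ℕ) : ℤ) = 2 * b ^ 2 - 1 := by
    push_cast [Nat.cast_sub hq1]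
    rw [← hbb]
    ring
  obtain ⟨N, hN, hgN, hpN⟩ : ∃ N : ℕ, ((N : ℤ) = H493.PGF4T.fP b ∨ (N : ℤ) = H493.PGF4T.fM b) ∧
      (∃ g : ↥(twistedF4 K (2 ^ k)), orderOf g = N) ∧ p ∣ N := by
    rcases hcov with h | h
    · exact ⟨_, Or.inl hP, gP, h⟩
    · exact ⟨_, Or.inr hM, gM, h⟩
  have hpow := B.pow_eq hgN hpN
  have c : Num.Cg p N (2 * b ^ 2 - 1) := B.cg hpow fun r hr h => by
    rw [← hqb] at h
    rw [hcard]
    exact (Int.natCast_dvd_natCast.1 h).trans (((Dvd.intro_left _ rfl).mul_right _).mul_right _ |>.mul_right _)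
  refine Num.num_2F4 B.A.hp (b := b) (N := N) hb (Int.natCast_dvd_natCast.2 hpN) ?_ c
  rcases hN with h | h
  · left; rw [h]; unfold H493.PGF4T.fP; ring
  · right; rw [h]; unfold H493.PGF4T.fM; ring

/-- **No `²F₄(q)`.** -/
theorem not_2F4 {S : Type*} [Group S] (h : Cfsg.Lie.Iso2F4 S) {p n m : ℕ} (B : PB S p n m) : False := by
  obtain ⟨K, _, _, k, hk, hK, ⟨e⟩⟩ := h
  exact not_2F4' hk hK (B.congr e)

end Cfsg.Agent.H432.PG
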