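import Cfsg.Agent.H432.PG.Base
import Cfsg.Agent.NotCT.Orders

/-!
# The sporadic groups and the Tits group do not have the prime graph of `PSL_2(p)` (helper432)

For each prime `q > 11`, `q ≢ 1 mod 12`, dividing the order some other prime `r` divides the order and not `q ^ 2 - 1`.
-/

set_option autoImplicit false

namespace Cfsg.Agent.H432.PG

section
variable {S : Type*} [Group S] {p n m : ℕ}

theorem not_m11 (h : Cfsg.Spor.IsoM11 S) (B : PB S p n m) : False :=
  B.card_false (N := 7920) (NotCT.Orders.m11 h) [2, 3, 5, 11] 4 (by decide +kernel) (by decide +kernel) (by decide +kernel)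

theorem not_m12 (h : Cfsg.Spor.IsoM12 S) (B : PB S p n m) : False :=
  B.card_false (N := 95040) (NotCT.Orders.m12 h) [2, 3, 5, 11] 6 (by decide +kernel) (by decide +kernel) (by decide +kernel)

theorem not_m22 (h : Cfsg.Spor.IsoM22 S) (B : PB S p n m) : False :=
  B.card_false (N := 443520) (NotCT.Orders.m22 h) [2, 3, 5, 7, 11] 7 (by decide +kernel) (by decide +kernel) (by decide +kernel)

theorem not_m23 (h : Cfsg.Spor.IsoM23 S) (B : PB S p n m) : False :=
  B.card_false (N := 10200960) (NotCT.Orders.m23 h) [2, 3, 5, 7, 11, 23] 7 (by decide +kernel) (by decide +kernel) (by decide +kernel)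

theorem not_m24 (h : Cfsg.Spor.IsoM24 S) (B : PB S p n m) : False :=
  B.card_false (N := 244823040) (NotCT.Orders.m24 h) [2, 3, 5, 7, 11, 23] 10 (by decide +kernel) (by decide +kernel) (by decide +kernel)

theorem not_j1 (h : Cfsg.Spor.IsoJ1 S) (B : PB S p n m) : False :=
  B.card_false (N := 175560) (NotCT.Orders.j1 h) [2, 3, 5, 7, 11, 19] 3 (by decide +kernel) (by decide +kernel) (by decide +kernel)

theorem not_j2 (h : Cfsg.Spor.IsoJ2 S) (B : PB S p n m) : False :=
  B.card_false (N := 604800) (NotCT.Orders.j2 h) [2, 3, 5, 7] 7 (by decide +kernel) (by decide +kernel) (by decide +kernel)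

theorem not_j3 (h : Cfsg.Spor.IsoJ3 S) (B : PB S p n m) : False :=
  B.card_false (N := 50232960) (NotCT.Orders.j3 h) [2, 3, 5, 17, 19] 7 (by decide +kernel) (by decide +kernel) (by decide +kernel)

theorem not_j4 (h : Cfsg.Spor.IsoJ4 S) (B : PB S p n m) : False :=
  B.card_false (N := 86775571046077562880) (NotCT.Orders.j4 h) [2, 3, 5, 7, 11, 23, 29, 31, 37, 43] 21 (by decide +kernel) (by decide +kernel) (by decide +kernel)

theorem not_co1 (h : Cfsg.Spor.IsoCo1 S) (B : PB S p n m) : False :=
  B.card_false (N := 4157776806543360000) (NotCT.Orders.co1 h) [2, 3, 5, 7, 11, 13, 23] 21 (by decide +kernel) (by decide +kernel) (by decide +kernel)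

theorem not_co2 (h : Cfsg.Spor.IsoCo2 S) (B : PB S p n m) : False :=
  B.card_false (N := 42305421312000) (NotCT.Orders.co2 h) [2, 3, 5, 7, 11, 23] 18 (by decide +kernel) (by decide +kernel) (by decide +kernel)

theorem not_co3 (h : Cfsg.Spor.IsoCo3 S) (B : PB S p n m) : False :=
  B.card_false (N := 495766656000) (NotCT.Orders.co3 h) [2, 3, 5, 7, 11, 23] 10 (by decide +kernel) (by decide +kernel) (by decide +kernel)

theorem not_mcl (h : Cfsg.Spor.IsoMcL S) (B : PB S p n m) : False :=
  B.card_false (N := 898128000) (NotCT.Orders.mcl h) [2, 3, 5, 7, 11] 7 (by decide +kernel) (by decide +kernel) (by decide +kernel)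

theorem not_hs (h : Cfsg.Spor.IsoHS S) (B : PB S p n m) : False :=
  B.card_false (N := 44352000) (NotCT.Orders.hs h) [2, 3, 5, 7, 11] 9 (by decide +kernel) (by decide +kernel) (by decide +kernel)

theorem not_suz (h : Cfsg.Spor.IsoSuz S) (B : PB S p n m) : False :=
  B.card_false (N := 448345497600) (NotCT.Orders.suz h) [2, 3, 5, 7, 11, 13] 13 (by decide +kernel) (by decide +kernel) (by decide +kernel)

theorem not_he (h : Cfsg.Spor.IsoHe S) (B : PB S p n m) : False :=
  B.card_false (N := 4030387200) (NotCT.Orders.he h) [2, 3, 5, 7, 17] 10 (by decide +kernel) (by decide +kernel) (by decide +kernel)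

theorem not_ru (h : Cfsg.Spor.IsoRu S) (B : PB S p n m) : False :=
  B.card_false (N := 145926144000) (NotCT.Orders.ru h) [2, 3, 5, 7, 13, 29] 14 (by decide +kernel) (by decide +kernel) (by decide +kernel)

theorem not_on (h : Cfsg.Spor.IsoON S) (B : PB S p n m) : False :=
  B.card_false (N := 460815505920) (NotCT.Orders.on h) [2, 3, 5, 7, 11, 19, 31] 9 (by decide +kernel) (by decide +kernel) (by decide +kernel)

theorem not_ly (h : Cfsg.Spor.IsoLy S) (B : PB S p n m) : False :=
  B.card_false (N := 51765179004000000) (NotCT.Orders.ly h) [2, 3, 5, 7, 11, 31, 37, 67] 8 (by decide +kernel) (by decide +kernel) (by decide +kernel)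

theorem not_fi22 (h : Cfsg.Spor.IsoFi22 S) (B : PB S p n m) : False :=
  B.card_false (N := 64561751654400) (NotCT.Orders.fi22 h) [2, 3, 5, 7, 11, 13] 17 (by decide +kernel) (by decide +kernel) (by decide +kernel)

theorem not_fi23 (h : Cfsg.Spor.IsoFi23 S) (B : PB S p n m) : False :=
  B.card_false (N := 4089470473293004800) (NotCT.Orders.fi23 h) [2, 3, 5, 7, 11, 13, 17, 23] 18 (by decide +kernel) (by decide +kernel) (by decide +kernel)

theorem not_fi24 (h : Cfsg.Spor.IsoFi24' S) (B : PB S p n m) : False :=
  B.card_false (N := 1255205709190661721292800) (NotCT.Orders.fi24 h) [2, 3, 5, 7, 11, 13, 17, 23, 29] 21 (by decide +kernel) (by decide +kernel) (by decide +kernel)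

theorem not_hn (h : Cfsg.Spor.IsoHN S) (B : PB S p n m) : False :=
  B.card_false (N := 273030912000000) (NotCT.Orders.hn h) [2, 3, 5, 7, 11, 19] 14 (by decide +kernel) (by decide +kernel) (by decide +kernel)

theorem not_th (h : Cfsg.Spor.IsoTh S) (B : PB S p n m) : False :=
  B.card_false (N := 90745943887872000) (NotCT.Orders.th h) [2, 3, 5, 7, 13, 19, 31] 15 (by decide +kernel) (by decide +kernel) (by decide +kernel)

theorem not_b (h : Cfsg.Spor.IsoB S) (B : PB S p n m) : False :=
  B.card_false (N := 4154781481226426191177580544000000) (NotCT.Orders.b h) [2, 3, 5, 7, 11, 13, 17, 19, 23, 31, 47] 41 (by decide +kernel) (by decide +kernel) (by decide +kernel)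

theorem not_m (h : Cfsg.Spor.IsoM S) (B : PB S p n m) : False :=
  B.card_false (N := 808017424794512875886459904961710757005754368000000000) (NotCT.Orders.m h) [2, 3, 5, 7, 11, 13, 17, 19, 23, 29, 31, 41, 47, 59, 71] 46 (by decide +kernel) (by decide +kernel) (by decide +kernel)

theorem not_tits (h : Cfsg.Lie.IsoTits S) (B : PB S p n m) : False :=
  B.card_false (N := 17971200) (NotCT.Orders.tits h) [2, 3, 5, 13] 11 (by decide +kernel) (by decide +kernel) (by decide +kernel)

/-- **No sporadic group.** -/
theorem not_sporadic (h : Cfsg.IsSporadicGroup S) (B : PB S p n m) : False := by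
  rcases h with h | h | h | h | h | h | h | h | h | h | h | h | h | h | h | h | h | h | h | h | h |
      h | h | h | h | h
  · exact not_m11 h B
  · exact not_m12 h B
  · exact not_m22 h B
  · exact not_m23 h B
  · exact not_m24 h B
  · exact not_j1 h B
  · exact not_j2 h B
  · exact not_j3 h B
  · exact not_j4 h B
  · exact not_co1 h B
  · exact not_co2 h B
  · exact not_co3 h B
  · exact not_mcl h B
  · exact not_hs h B
  · exact not_suz h B
  · exact not_he h B
  · exact not_ru h B
  · exact not_on h B
  · exact not_ly h B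
  · exact not_fi22 h B
  · exact not_fi23 h B
  · exact not_fi24 h B
  · exact not_hn h B
  · exact not_th h B
  · exact not_b h B
  · exact not_m h B

end

end Cfsg.Agent.H432.PG
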