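import Cfsg.Agent.H432.PG.Fam
import Cfsg.Agent.H432.PG.Spor

/-!
# The simple groups with the prime graph conditions of `PSL_2(p)` are `PSL_2(p)` (helper432)
-/

set_option autoImplicit false
set_option linter.unusedSectionVars false

namespace Cfsg.Agent.H432.PG

open Cfsg Cfsg.Lie Cfsg.Lie.ChevalleyDatum
open Cfsg.Agent.H371.Core
open Cfsg.Agent.H94

/-! ### `PΩ⁻(2m, q)` -/

section

open QuadraticMap
open Cfsg.Agent.LieClassical.OrthCore Cfsg.Agent.LieClassical.OrthForms
open Cfsg.Agent.H182.Sign Cfsg.Agent.H403.Classify Cfsg.Agent.H182.Orth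

variable {F : Type*} [Field F] [Finite F] {ι : Type} [Fintype ι] [DecidableEq ι]
  {Q : QuadraticForm F (ι → F)} {m : ℕ}

theorem minus_false (hQ : Sg Q m (-1)) (hm : 5 ≤ m) (hm3 : m % 3 = 2) (hmo : Odd m) (h3 : Nat.card F = 3) {c k : ℕ}
    (hc : c * k = Nat.card F ^ (m * (m - 1)) * (Nat.card F ^ m + 1) *
      ∏ i ∈ Finset.range (m - 1), (Nat.card F ^ (2 * (i + 1)) - 1)) (hk : k = Nat.card (Cfsg.POmega F ⇑Q))
    (hc4 : c ∣ 4) {p n m' : ℕ} (B : PB (Cfsg.POmega F ⇑Q) p n m') : False := by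
  have hm4 : 4 ≤ m := by omega
  have h17 := B.p_ge
  have hp := B.A.hp
  have hex : ∀ N : ℕ, Odd N → N ∣ 3 ^ (m - 1) + 1 ∨ N ∣ 3 ^ m + 1 → ∃ s : Cfsg.POmega F ⇑Q, orderOf s = N := by
    intro N hN h
    rw [← h3] at h
    exact exists_orderOf_minus hQ hm4 hN h
  obtain ⟨l, hl⟩ := hmo
  set X := 3 ^ (m - 1) with hX
  have hX3 : 3 ^ m = 3 * X := by
    rw [hX, ← pow_succ']
    congr 1
    omega
  have hX8 : X % 8 = 1 := by
    have e : m - 1 = 2 * l := by omega
    rw [hX, e, pow_mul, Nat.pow_mod]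
    norm_num
  have hX13 : (X : ℤ) % 13 = 3 := by
    have e : m - 1 = 3 * ((m - 2) / 3) + 1 := by omega
    rw [hX, e]
    push_cast
    exact Num.three_pow_mod13 _
  obtain ⟨a, ha⟩ : ∃ a, 2 * a = X + 1 := ⟨(X + 1) / 2, by omega⟩
  obtain ⟨b, hb⟩ : ∃ b, 4 * b = 3 * X + 1 := ⟨(3 * X + 1) / 4, by omega⟩
  have hao : Odd a := by
    rw [Nat.odd_iff]; omega
  have hbo : Odd b := by
    rw [Nat.odd_iff]; omega
  have hcase : p ∣ X + 1 ∨ p ∣ 3 * X + 1 := by
    rcases minus_cases hQ hm4 hc hp (by omega) (by rw [hk]; exact B.dp) with h | ⟨h, -⟩ | h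
    · exact absurd h B.not_conn_p
    · rw [h3] at h
      exact Or.inl h
    · rw [h3, hX3] at h
      exact Or.inr h
  rw [hX3, ← ha, ← hb] at hex
  obtain ⟨N, hN, hgN, hpN⟩ : ∃ N : ℕ, (2 * N = X + 1 ∨ 4 * N = 3 * X + 1) ∧
      (∃ s : Cfsg.POmega F ⇑Q, orderOf s = N) ∧ p ∣ N := by
    rcases hcase with h | h
    · refine ⟨a, Or.inl ha, hex a hao (Or.inl (Dvd.intro_left 2 rfl)), ?_⟩
      rw [← ha] at h
      rcases hp.dvd_mul.1 h with h | h
      · have := Nat.le_of_dvd (by norm_num) h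
        omega
      · exact h
    · refine ⟨b, Or.inr hb, hex b hbo (Or.inr (Dvd.intro_left 4 rfl)), ?_⟩
      rw [← hb] at h
      rcases hp.dvd_mul.1 h with h | h
      · have := Nat.le_of_dvd (by norm_num) h
        omega
      · exact h
  have hpow := B.pow_eq hgN hpN
  have h13 : 13 ∣ Nat.card (Cfsg.POmega F ⇑Q) := by
    have h1 : 13 ∣ c * k := by
      rw [hc, h3]
      refine Dvd.dvd.mul_left ?_ _
      have h2 : (3 ^ (2 * (2 + 1)) - 1) ∣ ∏ i ∈ Finset.range (m - 1), (3 ^ (2 * (i + 1)) - 1) :=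
        Finset.dvd_prod_of_mem (fun i => 3 ^ (2 * (i + 1)) - 1) (Finset.mem_range.2 (by omega))
      exact Dvd.dvd.trans (by norm_num) h2
    rw [← hk]
    rcases (Nat.Prime.dvd_mul (by norm_num)).1 h1 with h | h
    · exact absurd (h.trans hc4) (by norm_num)
    · exact h
  have c := B.cg hpow (X := 13) (fun r hr h => by
    have : r = 13 := Num.eq_of_dvd hr (c := 13) (by norm_num) (by exact_mod_cast h)
    rw [this]; exact h13)
  refine Num.num_OM (p := p) B.A.ne_13 hX13 (N := N) ?_ c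
  rcases hN with h | h
  · left; exact_mod_cast h
  · right; exact_mod_cast h

end

open Cfsg.Agent.LieClassical.OrthCore Cfsg.Agent.LieClassical.OrthForms
  Cfsg.Agent.H182.Sign Cfsg.Agent.H403.Classify Cfsg.Agent.H182.Orth in
/-- **No `PΩ⁻(2m, q)`.** -/
theorem not_pOmegaMinus {S : Type*} [Group S] (h : Cfsg.IsPOmegaMinus S) {p n m' : ℕ} (B : PB S p n m') :
    False := by
  rcases conn_of_isPOmegaMinus h with h | ⟨F, _, _, m, a, b, h3, hm, ⟨t, ht⟩, hm4, hab, ⟨e⟩⟩
  · exact B.not_two fun ha hb ha2 hb2 hda hdb => h ha hb ha2 hb2 hda hdb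
  · have hcard := Cfsg.Agent.S0294.result (F := F) rfl m hm4 a b hab
    simp only [← Nat.card_eq_fintype_card] at hcard
    have hs := sg_minusForm (F := F) (m - 1) hab
    rw [Nat.sub_add_cancel (by omega)] at hs
    have hmo : Odd m := hm.odd_of_ne_two (by omega)
    have hm5 : 5 ≤ m := by
      obtain ⟨l, hl⟩ := hmo
      omega
    have hm3 : m % 3 = 2 := by
      have h1 : m % 3 ≠ 0 := by
        intro h0
        have := (Nat.prime_dvd_prime_iff_eq Nat.prime_three hm).1 (Nat.dvd_of_mod_eq_zero h0)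
        omega
      have h2 : 2 ^ t % 3 = 1 ∨ 2 ^ t % 3 = 2 := by
        clear ht
        induction t with
        | zero => left; rfl
        | succ t ih => rw [pow_succ]; omega
      omega
    have B' := B.congr e
    rw [← coe_minusForm] at B' hcard
    exact minus_false hs hm5 hm3 hmo (by rw [Nat.card_eq_fintype_card, h3]) hcard rfl (Nat.gcd_dvd_left _ _) B'

/-! ### unitary groups -/

/-- **No `PSU_n(q)`.** -/
theorem not_psu {S : Type*} [Group S] [Finite S] (h : Cfsg.IsPSU S) {p n m : ℕ} (B : PB S p n m) : False := by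
  by_cases h1 : ∃ (F : Type) (_ : Field F) (_ : Fintype F), Fintype.card F = 3 ^ 2 ∧
      Nonempty (S ≃* Cfsg.PSU 4 F 3)
  · obtain ⟨F, _, _, hF, ⟨e⟩⟩ := h1
    have hN : Nat.card S = 3265920 := by
      have h2 := Cfsg.Agent.S0280.result hF 4 (by norm_num)
      rw [← Nat.card_congr e.toEquiv] at h2
      rw [Finset.prod_range_succ, Finset.prod_range_succ, Finset.prod_range_succ, Finset.prod_range_succ,
        Finset.prod_range_zero] at h2
      norm_num [Nat.even_iff] at h2
      omega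
    exact B.card_false hN [2, 3, 5, 7] 7 (by decide +kernel) (by decide +kernel) (by decide +kernel)
  by_cases h2 : ∃ (F : Type) (_ : Field F) (_ : Fintype F), Fintype.card F = 2 ^ 2 ∧
      Nonempty (S ≃* Cfsg.PSU 6 F 2)
  · obtain ⟨F, _, _, hF, ⟨e⟩⟩ := h2
    have hN : Nat.card S = 9196830720 := by
      have h2 := Cfsg.Agent.S0280.result hF 6 (by norm_num)
      rw [← Nat.card_congr e.toEquiv] at h2
      rw [Finset.prod_range_succ, Finset.prod_range_succ, Finset.prod_range_succ, Finset.prod_range_succ,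
        Finset.prod_range_succ, Finset.prod_range_succ, Finset.prod_range_zero] at h2
      norm_num [Nat.even_iff] at h2
      omega
    exact B.card_false hN [2, 3, 5, 7, 11] 15 (by decide +kernel) (by decide +kernel) (by decide +kernel)
  refine B.not_two fun {a b} ha hb ha2 hb2 hda hdb => ?_
  rcases H948.UMain.psu_three h ha hb ha2 hb2 hda hdb with h | h | h | h | h
  · exact Or.inl h
  · exact Or.inr (Or.inl h)
  · exact Or.inr (Or.inr h)
  · exact absurd h h1
  · exact absurd h h2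

/-! ### `E₆`, `E₇`, `²E₆` -/

section exc
open Cfsg.Agent.H378 Cfsg.Agent.H378.ExcAdj Cfsg.Agent.H564.NearTwo

/-- **No `E₆(q)`.** -/
theorem not_E6 {S : Type*} [Group S] (h : Cfsg.Lie.IsoChevE6 S) {p n m : ℕ} (B : PB S p n m) : False := by
  obtain ⟨F, _, _, ⟨e⟩⟩ := h
  refine (B.congr e).not_two ?_
  intro a b ha hb ha2 hb2 hda hdb
  rcases ExcNear.near_E6 F ha hda with h1 | h1
  · exact Or.inl h1.conn.symm
  · rcases ExcNear.near_E6 F hb hdb with h2 | h2
    · exact Or.inr (Or.inl h2.conn.symm)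
    · refine Or.inr (Or.inr (conn_of_conn ?_))
      exact H493.PGE6.conn9 ha hb (H378.ExcNear.not_dvd_of_od ha h1 (by norm_num) (by norm_num))
        (H378.ExcNear.not_dvd_of_od hb h2 (by norm_num) (by norm_num)) (H378.CycTab.dvd9 ha h1) (H378.CycTab.dvd9 hb h2)

/-- `5 ∤ p ^ 2 - 1` -/
theorem five_false {S : Type*} [Group S] {p n m : ℕ} (B : PB S p n m) (h5 : 5 ∣ Nat.card S) {N : ℕ} (hN : p ∣ N)
    (hNp : N.Prime) (hN5 : ¬ (5 : ℤ) ∣ (N : ℤ) ^ 2 - 1) : False := by
  have h1 := (Nat.prime_dvd_prime_iff_eq B.A.hp hNp).1 hN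
  subst h1
  have h17 := B.p_ge
  exact hN5 (by exact_mod_cast B.dvd_sq (by norm_num) h5 (by omega))

/-- **No `E₇(q)`.** -/
theorem not_E7 {S : Type*} [Group S] (h : Cfsg.Lie.IsoE7 S) {p n m : ℕ} (B : PB S p n m) : False := by
  obtain ⟨F, _, _, ⟨e⟩⟩ := h
  have B' := B.congr e
  by_cases h3 : Nat.card F ≤ 3
  · have hcard := Cfsg.Agent.S1064.result (F := F) rfl
    rw [← Nat.card_eq_fintype_card] at hcard
    have h1 : 1 < Nat.card F := Finite.one_lt_card
    rcases (by omega : Nat.card F = 2 ∨ Nat.card F = 3) with hF | hF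
    · rw [hF] at hcard
      have h5 : 5 ∣ Nat.card ↥(chevE7.group F) := by
        have h5 : 5 ∣ Nat.gcd 2 (2 - 1) * Nat.card ↥(chevE7.group F) := by
          rw [hcard]; norm_num
        norm_num at h5
        exact h5
      rcases ExcNear.near_E7 (F := F) B'.A.hp B'.dp with h | ⟨-, h | h⟩
      · exact B'.not_conn_p h.conn.symm
      · have h7 := H378.CycTab.dvd7 B'.A.hp h
        rw [H378.CycTab.pv7, hF] at h7
        norm_num at h7
        exact five_false B' h5 (N := 127) (by exact_mod_cast h7) (by norm_num) (by norm_num)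
      · have h7 := H378.CycTab.dvd9 B'.A.hp h
        rw [H378.CycTab.pv9, hF] at h7
        norm_num at h7
        exact five_false B' h5 (N := 73) (by exact_mod_cast h7) (by norm_num) (by norm_num)
    · rw [hF] at hcard
      have h5 : 5 ∣ Nat.card ↥(chevE7.group F) := by
        have h5 : 5 ∣ Nat.gcd 2 (3 - 1) * Nat.card ↥(chevE7.group F) := by
          rw [hcard]; norm_num
        rcases (Nat.Prime.dvd_mul (by norm_num)).1 h5 with h | h
        · norm_num at h
        · exact h
      rcases ExcNear.near_E7 (F := F) B'.A.hp B'.dp with h | ⟨-, h | h⟩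
      · exact B'.not_conn_p h.conn.symm
      · have h7 := H378.CycTab.dvd7 B'.A.hp h
        rw [H378.CycTab.pv7, hF] at h7
        norm_num at h7
        exact five_false B' h5 (N := 1093) (by exact_mod_cast h7) (by norm_num) (by norm_num)
      · have h7 := H378.CycTab.dvd9 B'.A.hp h
        rw [H378.CycTab.pv9, hF] at h7
        norm_num at h7
        exact five_false B' h5 (N := 757) (by exact_mod_cast h7) (by norm_num) (by norm_num)
  · refine B'.not_two ?_
    intro a b ha hb ha2 hb2 hda hdb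
    rcases ExcNear.near_E7 (F := F) ha hda with h | ⟨h, -⟩
    · exact Or.inl h.conn.symm
    · exact absurd h h3

/-- **No `²E₆(q)`.** -/
theorem not_2E6 {S : Type*} [Group S] (h : Cfsg.Lie.Iso2E6 S) {p n m : ℕ} (B : PB S p n m) : False := by
  obtain ⟨K, _, _, q, hq, hK, ⟨e⟩⟩ := h
  have B' := B.congr e
  have hcard := Cfsg.Agent.S1066.result hq hK
  have hcov : ∀ r : ℕ, r.Prime → r ∣ Nat.card ↥(twistedE6 K q) → H94.PG.Conn ↥(twistedE6 K q) 2 r ∨
      (r ≠ 3 ∧ ((r : ℤ) ∣ H493.PGTorus.pv H493.PGCyc.c8 q ∨ (r : ℤ) ∣ H493.PGTorus.pv H493.PGCyc.c12 q ∨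
        (r : ℤ) ∣ H493.PGTorus.pv H493.PGCyc.c18 q)) := by
    intro r hr hd
    by_cases hr3 : r = 3
    · rw [hr3]
      exact Or.inl (three_conn_2E6 hq hK)
    · rcases H493.PGE6T.cover hq.two_le hr (by rw [← hcard]; exact hd.mul_left _) with h | h
      · exact Or.inl (main_2E6 hq hK hr hr3 h)
      · exact Or.inr ⟨hr3, h⟩
  by_cases hq2 : q = 2
  · subst hq2
    have h57 : 5 * 7 ∣ Nat.card ↥(twistedE6 K 2) := by
      have h5 : 5 * 7 ∣ Nat.gcd 3 (2 + 1) * Nat.card ↥(twistedE6 K 2) := by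
        rw [hcard]; norm_num
      exact Nat.Coprime.dvd_of_dvd_mul_left (by norm_num) h5
    have h5 : 5 ∣ Nat.card ↥(twistedE6 K 2) := (Dvd.intro 7 rfl).trans h57
    have h7 : 7 ∣ Nat.card ↥(twistedE6 K 2) := (Dvd.intro_left 5 rfl).trans h57
    have h17 := B'.p_ge
    have hp := B'.A.hp
    rcases hcov p B'.A.hp B'.dp with h | ⟨hr3, h | h | h⟩
    · exact B'.not_conn_p h
    · rw [H493.PGCyc.pv_c8] at h
      norm_num at h
      exact five_false B' h5 (N := 17) (by exact_mod_cast h) (by norm_num) (by norm_num)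
    · rw [H493.PGCyc.pv_c12] at h
      norm_num at h
      have h8 : p ∣ 13 := by exact_mod_cast h
      have := Nat.le_of_dvd (by norm_num) h8
      omega
    · rw [H493.PGCyc.pv_c18] at h
      norm_num at h
      have h8 : p ∣ 3 * 19 := by exact_mod_cast h
      rcases hp.dvd_mul.1 h8 with h8 | h8
      · exact absurd ((Nat.prime_dvd_prime_iff_eq hp Nat.prime_three).1 h8) hr3
      · have h19 := (Nat.prime_dvd_prime_iff_eq hp (by norm_num)).1 h8
        have h9 := B'.dvd_sq (r := 7) (by norm_num) h7 (by omega)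
        rw [h19] at h9
        norm_num at h9
  · refine B'.not_two ?_
    intro a b ha hb ha2 hb2 hda hdb
    rcases hcov a ha hda with h | ⟨ha3, h | h | h⟩
    · exact Or.inl h
    · exact Or.inl (eight_2E6 hq hK hq2 ha ha3 h)
    · exact Or.inl (twelve_2E6 hq hK hq2 ha ha3 h)
    · rcases hcov b hb hdb with h' | ⟨hb3, h' | h' | h'⟩
      · exact Or.inr (Or.inl h')
      · exact Or.inr (Or.inl (eight_2E6 hq hK hq2 hb hb3 h'))
      · exact Or.inr (Or.inl (twelve_2E6 hq hK hq2 hb hb3 h'))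
      · exact Or.inr (Or.inr (conn_of_conn (H493.PGE6T.conn18 hq hK ha hb ha3 hb3 h h')))

end exc

/-! ### `PSL_n(q)` -/

/-- **`PSL_n(q)`.** -/
theorem of_psl {S : Type*} [Group S] (h : Cfsg.IsPSL S) {p n m : ℕ} (B : PB S p n m) :
    ∃ (F : Type) (_ : Field F) (_ : Fintype F), Fintype.card F = p ∧
      Nonempty (S ≃* Matrix.ProjectiveSpecialLinearGroup (Fin 2) F) := by
  obtain ⟨F, _, _, k, hk, h4, ⟨e⟩⟩ := h
  rcases Nat.lt_or_ge k 3 with hk3 | hk3
  · obtain rfl : k = 2 := by omega
    exact ⟨F, inferInstance, inferInstance, psl_card (h4 rfl) (B.congr e), ⟨e⟩⟩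
  · exfalso
    have B' := B.congr e
    have h17 := B.p_ge
    by_cases h24 : k = 3 ∧ (Nat.card F = 2 ∨ Nat.card F = 4)
    · obtain ⟨rfl, h2⟩ := h24
      rcases h2 with h2 | h2
      · rw [Nat.card_eq_fintype_card] at h2
        have hN : Nat.card (Matrix.ProjectiveSpecialLinearGroup (Fin 3) F) = 168 := by
          have h := Cfsg.Agent.S0243.result (F := F) h2 3 (by norm_num)
          rw [Fin.prod_univ_three] at h
          norm_num at h
          omega
        exact B'.card_false hN [2, 3, 7] 3 (by decide +kernel) (by decide +kernel) (by decide +kernel)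
      · rw [Nat.card_eq_fintype_card] at h2
        have hN : Nat.card (Matrix.ProjectiveSpecialLinearGroup (Fin 3) F) = 20160 := by
          have h := Cfsg.Agent.S0243.result (F := F) h2 3 (by norm_num)
          rw [Fin.prod_univ_three] at h
          norm_num at h
          omega
        exact B'.card_false hN [2, 3, 5, 7] 6 (by decide +kernel) (by decide +kernel) (by decide +kernel)
    · refine B'.not_two ?_
      intro a b ha hb ha2 hb2 hda hdb
      rcases H371.Psl.three hk3 ha hb ha2 hb2 hda hdb with h | h | h | h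
      · exact Or.inl h
      · exact Or.inr (Or.inl h)
      · exact Or.inr (Or.inr h)
      · exact absurd h h24

/-- **The known simple groups with the prime graph conditions.** -/
theorem core {S : Type*} [Group S] [Finite S] (hS : Cfsg.IsKnownSimple' S) (h2 : 2 ∣ Nat.card S) {p n m : ℕ}
    (B : PB S p n m) : ∃ (F : Type) (_ : Field F) (_ : Fintype F), Fintype.card F = p ∧
      Nonempty (S ≃* Matrix.ProjectiveSpecialLinearGroup (Fin 2) F) := by
  rcases hS with h | h | h | h | h | h | h | h | h | h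
  · exfalso
    have hp : (Nat.card S).Prime := h
    have h17 := B.p_ge
    have h1 := (Nat.prime_dvd_prime_iff_eq Nat.prime_two hp).1 h2
    have h3 := (Nat.prime_dvd_prime_iff_eq B.A.hp hp).1 B.dp
    omega
  · obtain ⟨k, -, ⟨e⟩⟩ := h
    exact (not_alt (B.congr e)).elim
  · exact of_psl h B
  · exact (B.not_two (two_psp h)).elim
  · exact (not_psu h B).elim
  · exact (B.not_two (two_pOmegaOdd h)).elim
  · exact (B.not_two (two_pOmegaPlus h)).elim
  · exact (not_pOmegaMinus h B).elim
  · rcases h with h | h | h | h | h | h | h | h | h | h | h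
    · exact (not_G2 h B).elim
    · exact (not_F4 h B).elim
    · exact (not_E6 h B).elim
    · exact (not_E7 h B).elim
    · exact (not_E8 h B).elim
    · exact (not_2E6 h B).elim
    · exact (B.not_two (two_of_few h2 (H493.PGD4T.few_iso3D4 h))).elim
    · exact (not_sz h B).elim
    · exact (not_ree h B).elim
    · exact (not_2F4 h B).elim
    · exact (not_tits h B).elim
  · exact (not_sporadic h B).elim

end Cfsg.Agent.H432.PG
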