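import Cfsg.Agent.H432.PG.Base
import Cfsg.Agent.H432.PG.ModRing
import Cfsg.Agent.H414.Adj

/-!
# Extensions of abelian groups by `PSL_2(p)` (helper432)

`no_abelian`: a finite group `G` with a nontrivial abelian normal subgroup `N` and `G / N ≅ PSL_2(p)` whose prime graph
satisfies the conditions does not exist.
-/

set_option autoImplicit false

namespace Cfsg.Agent.H432.PG

open Matrix ModRing

variable {p : ℕ} [Fact p.Prime]

/-- the projection -/
abbrev prj (p : ℕ) [Fact p.Prime] : SpecialLinearGroup (Fin 2) (ZMod p) →* ProjectiveSpecialLinearGroup (Fin 2) (ZMod p) :=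
  QuotientGroup.mk' (Subgroup.center (SpecialLinearGroup (Fin 2) (ZMod p)))

theorem prj_eq_one {x : SpecialLinearGroup (Fin 2) (ZMod p)} (h : prj p x = 1) : ∃ r : ZMod p, x.1 = scalar (Fin 2) r := by
  obtain ⟨r, -, hr⟩ := Matrix.SpecialLinearGroup.mem_center_iff.1 ((QuotientGroup.eq_one_iff x).1 h)
  exact ⟨r, hr.symm⟩

theorem prj_neg_one : prj p (-1) = 1 := by
  apply (QuotientGroup.eq_one_iff _).2
  rw [Matrix.SpecialLinearGroup.mem_center_iff]
  refine ⟨-1, by simp, ?_⟩
  ext i j
  fin_cases i <;> fin_cases j <;> simp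

theorem prj_T {j : ZMod p} (hj : j ≠ 0) : prj p (T j) ≠ 1 := by
  intro h
  obtain ⟨r, hr⟩ := prj_eq_one h
  have h1 := congrFun (congrFun hr 0) 1
  apply hj
  simpa [T] using h1

theorem prj_A : prj p A ≠ 1 := by
  intro h
  obtain ⟨r, hr⟩ := prj_eq_one h
  have h1 := congrFun (congrFun hr 1) 0
  simp [A] at h1

theorem prj_B : prj p B ≠ 1 := by
  intro h
  obtain ⟨r, hr⟩ := prj_eq_one h
  have h1 := congrFun (congrFun hr 1) 0
  simp [B] at h1

theorem prj_d {a b : ZMod p} (h : a * b = 1) (ha : a * a ≠ 1) : prj p (d a b h) ≠ 1 := by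
  intro h1
  obtain ⟨r, hr⟩ := prj_eq_one h1
  have h2 := congrFun (congrFun hr 0) 0
  have h3 := congrFun (congrFun hr 1) 1
  simp [d] at h2 h3
  apply ha
  calc a * a = a * b := by rw [h2, h3]
    _ = 1 := h

theorem d_pow {a b : ZMod p} (h : a * b = 1) (k : ℕ) :
    (d a b h) ^ k = d (a ^ k) (b ^ k) (by rw [← mul_pow, h, one_pow]) := by
  induction k with
  | zero =>
    apply Subtype.ext
    change (1 : Matrix (Fin 2) (Fin 2) (ZMod p)) = !![a ^ 0, 0; 0, b ^ 0]
    rw [pow_zero, pow_zero, Matrix.one_fin_two]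
  | succ k ih =>
    rw [pow_succ, ih]
    apply Subtype.ext
    change !![a ^ k, 0; 0, b ^ k] * !![a, 0; 0, b] = !![a ^ (k + 1), 0; 0, b ^ (k + 1)]
    rw [Matrix.mul_fin_two]
    congr 1
    simp [pow_succ]

theorem d_one {a b : ZMod p} (h : a * b = 1) (ha : a = 1) (hb : b = 1) : d a b h = 1 := by
  subst ha hb
  apply Subtype.ext
  change !![(1 : ZMod p), 0; 0, 1] = 1
  rw [Matrix.one_fin_two]

section

variable {G : Type*} [Group G] [Finite G] (N : Subgroup G) [N.Normal]

/-- endomorphisms from automorphisms -/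
def toEnd (V : Type*) [CommGroup V] : MulAut V →* AddMonoid.End (Additive V) where
  toFun f := MonoidHom.toAdditive f.toMonoidHom
  map_one' := rfl
  map_mul' _ _ := rfl

/-- **No extension.** -/
theorem no_abelian (hcomm : ∀ a ∈ N, ∀ b ∈ N, a * b = b * a) (hN : N ≠ ⊥)
    (φ : G →* ProjectiveSpecialLinearGroup (Fin 2) (ZMod p)) (hφ : Function.Surjective φ) (hker : φ.ker = N)
    {n m : ℕ} (hA : NP p n m) (hcop : ∀ u : ℕ, u = p ∨ (u.Prime ∧ u ∣ n) → ¬ u ∣ Nat.card ↥N)
    (hno : ∀ u r : ℕ, u = p ∨ (u.Prime ∧ u ∣ n) → r.Prime → r ∣ Nat.card ↥N → ¬ ∃ y : G, orderOf y = u * r) : False := by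
  classical
  have hp : p.Prime := Fact.out
  let _ : CommGroup ↥N := { (inferInstance : Group ↥N) with mul_comm := fun a b => Subtype.ext (hcomm a a.2 b b.2) }
  let θ : G →* MulAut ↥N := MulAut.conjNormal
  have hθ : ∀ (g : G) (v : ↥N), ((θ g v : ↥N) : G) = g * v * g⁻¹ := fun g v => rfl
  have hle : φ.ker ≤ θ.ker := by
    intro g hg
    rw [hker] at hg
    rw [MonoidHom.mem_ker]
    apply MulEquiv.ext
    intro v
    apply Subtype.ext
    rw [hθ, hcomm g hg v v.2, mul_inv_cancel_right]
    rfl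
  let e := QuotientGroup.quotientKerEquivOfSurjective φ hφ
  let ρ0 : ProjectiveSpecialLinearGroup (Fin 2) (ZMod p) →* MulAut ↥N :=
    (QuotientGroup.lift φ.ker θ hle).comp e.symm.toMonoidHom
  have hρ0 : ∀ g : G, ρ0 (φ g) = θ g := by
    intro g
    have h1 : e.symm (φ g) = QuotientGroup.mk g := by
      rw [MulEquiv.symm_apply_eq]
      rfl
    change QuotientGroup.lift φ.ker θ hle (e.symm (φ g)) = θ g
    rw [h1]
    rfl
  let ρ : SpecialLinearGroup (Fin 2) (ZMod p) →* AddMonoid.End (Additive ↥N) :=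
    (toEnd ↥N).comp (ρ0.comp (prj p))
  -- fixed-point-freeness
  have key : ∀ (u : ℕ), (u = p ∨ (u.Prime ∧ u ∣ n)) → ∀ x : SpecialLinearGroup (Fin 2) (ZMod p), prj p x ≠ 1 →
      (prj p x) ^ u = 1 → Fpf (ρ x) := by
    intro u hu x hx1 hxu r hr
    have hup : u.Prime := by
      rcases hu with rfl | h
      · exact hp
      · exact h.1
    have := Fact.mk hup
    have hord : orderOf (prj p x) = u := orderOf_eq_prime hxu hx1
    obtain ⟨g, hg⟩ := hφ (prj p x)
    have hug : u ∣ orderOf g := by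
      rw [← hord, ← hg]
      exact orderOf_map_dvd φ g
    apply AddMonoidHom.ext
    intro v
    have h1 : ρ x (r v) = r v := by
      have h2 := DFunLike.congr_fun hr v
      rw [sub_mul, one_mul] at h2
      change ρ x (r v) - r v = 0 at h2
      exact sub_eq_zero.1 h2
    set y : ↥N := (r v).toMul with hy
    have h2 : ρ0 (prj p x) y = y := h1
    have h3 : g * (y : G) * g⁻¹ = y := by
      rw [← hg, hρ0] at h2
      have h4 := congrArg Subtype.val h2
      rwa [hθ] at h4
    have hy1 : y = 1 := by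
      by_contra hne
      obtain ⟨s, hs, hsd⟩ := Nat.exists_prime_and_dvd (n := orderOf y) (fun h => hne (orderOf_eq_one_iff.1 h))
      have hsN : s ∣ Nat.card ↥N := hsd.trans (orderOf_dvd_natCard y)
      have hsu : u ≠ s := by
        rintro rfl
        exact hcop u hu hsN
      have hc : Commute g (y : G) := by
        have : g * (y : G) = y * g := by
          rw [mul_inv_eq_iff_eq_mul] at h3
          exact h3
        exact this
      obtain ⟨hup', hsp, hne', a, b, ha, hb, hab⟩ := H94.PG.adj_of_dvd hup hs hsu hc hug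
        (by rw [Subgroup.orderOf_coe]; exact hsd) (orderOf_pos g).ne' (orderOf_pos _).ne'
      exact hno u s hu hs hsN (H414.Adj.exists_order_mul_of_commute hup hs hsu ha hb hab)
    exact hy1
  have hT : ∀ j : ZMod p, j ≠ 0 → Fpf (ρ (T j)) := by
    intro j hj
    refine key p (Or.inl rfl) _ (prj_T hj) ?_
    rw [← map_pow, T_pow, CharP.cast_eq_zero, zero_mul, T_zero, map_one]
  have hnt : ∃ v : ↥N, v ≠ 1 := by
    by_contra hcon
    push Not at hcon
    apply hN
    rw [eq_bot_iff]
    intro x hx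
    rw [Subgroup.mem_bot]
    exact congrArg Subtype.val (hcon ⟨x, hx⟩)
  obtain ⟨v, hv⟩ := hnt
  rcases hA.h with ⟨h1, h2⟩ | ⟨h1, h2⟩
  · -- `p = 2 n + 1`
    have h5 := hA.n_pos
    obtain ⟨t, ht, htn⟩ := Nat.exists_prime_and_dvd (n := n) (by omega)
    have ht2 : t ≠ 2 := by rintro rfl; exact hA.two_not_dvd_n htn
    have := Fact.mk ht
    obtain ⟨b, hb⟩ := exists_prime_orderOf_dvd_card' (G := (ZMod p)ˣ) t (by
      rw [Nat.card_eq_fintype_card, ZMod.card_units, h1]
      simp only [Nat.add_sub_cancel]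
      exact Dvd.dvd.mul_left htn 2)
    obtain ⟨k, hk⟩ : ∃ k, t = 2 * k + 1 := by
      have := ht.eq_two_or_odd
      exact ⟨t / 2, by omega⟩
    let a : (ZMod p)ˣ := b ^ (k + 1)
    have haa : a * a = b := by
      change b ^ (k + 1) * b ^ (k + 1) = b
      rw [← pow_add]
      have e1 : k + 1 + (k + 1) = orderOf b + 1 := by omega
      rw [e1, pow_succ, pow_orderOf_eq_one, one_mul]
    have hat : a ^ t = 1 := by
      change (b ^ (k + 1)) ^ t = 1
      rw [← pow_mul, mul_comm, pow_mul, ← hb, pow_orderOf_eq_one, one_pow]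
    have hab : (a : ZMod p) * ((a⁻¹ : (ZMod p)ˣ) : ZMod p) = 1 := by
      rw [← Units.val_mul, mul_inv_cancel, Units.val_one]
    have haa' : (a : ZMod p) * (a : ZMod p) = (b : ZMod p) := by rw [← Units.val_mul, haa]
    have hdt : (d (a : ZMod p) _ hab) ^ t = 1 := by
      rw [d_pow]
      apply d_one
      · rw [← Units.val_pow_eq_pow_val, hat, Units.val_one]
      · rw [← Units.val_pow_eq_pow_val, inv_pow, hat, inv_one, Units.val_one]
    have hb1 : b ≠ 1 := by
      rintro rfl
      rw [orderOf_one] at hb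
      exact ht.one_lt.ne hb
    have h6 := frob ρ (hT 1 one_ne_zero) hab ht.pos (by rw [hdt, map_one])
      (key t (Or.inr ⟨ht, htn⟩) _ (prj_d hab (by
        rw [haa']
        intro h
        exact hb1 (Units.ext h))) (by rw [← map_pow, hdt, map_one]))
      (by
        intro i hi hit h
        rw [haa', ← Units.val_pow_eq_pow_val] at h
        have h7 : b ^ i = 1 := Units.ext h
        have h8 := Nat.le_of_dvd hi (orderOf_dvd_of_pow_eq_one h7)
        omega)
    have h7 : v ^ p = 1 := by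
      have h8 := DFunLike.congr_fun h6 (Additive.ofMul v)
      rw [← nsmul_one] at h8
      exact h8
    have h8 := orderOf_dvd_of_pow_eq_one h7
    rcases (Nat.dvd_prime hp).1 h8 with h9 | h9
    · exact hv (orderOf_eq_one_iff.1 h9)
    · exact hcop p (Or.inl rfl) (h9 ▸ orderOf_dvd_natCard v)
  · -- `p + 1 = 2 n`
    have h11 := hA.h11
    have h12 := hA.h12
    have hno := hA.hn
    have h3n : 3 ∣ n := by
      have h3p : ¬ 3 ∣ p := by
        intro h
        have := (Nat.prime_dvd_prime_iff_eq Nat.prime_three hp).1 h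
        omega
      obtain ⟨k, hk⟩ := hno
      have h3 : k % 3 = 0 ∨ k % 3 = 1 ∨ k % 3 = 2 := by omega
      rcases h3 with h3 | h3 | h3 <;> omega
    have h6 := quad ρ (by omega) (by
      change (toEnd ↥N) (ρ0 (prj p (-1))) = 1
      rw [prj_neg_one, map_one, map_one])
      (key 3 (Or.inr ⟨Nat.prime_three, h3n⟩) _ (by rw [map_inv, Ne, inv_eq_one]; exact prj_A) (by
        rw [← map_pow, inv_pow, A_pow, inv_one, map_one]))
      (key 3 (Or.inr ⟨Nat.prime_three, h3n⟩) _ prj_B (by
        rw [← map_pow, B_pow, prj_neg_one])) hT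
    apply hv
    exact DFunLike.congr_fun h6 (Additive.ofMul v)

end

end Cfsg.Agent.H432.PG
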