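import Cfsg.Agent.H414.Rad

/-!
# Odd primes of an odd radical are adjacent to `2` (helper432)
-/

set_option autoImplicit false

namespace Cfsg.Agent.H432.PG

open Subgroup Cfsg.Agent.H414.Adj Cfsg.Agent.H414.Good Cfsg.Agent.H414.Comp Cfsg.Agent.H414.QuatSec

/-- cyclic and generalized quaternion groups have at most one involution -/
theorem isQ_unique {T : Type*} [Group T] [Finite T] (h : IsQ T) {a b : T} (ha : orderOf a = 2) (hb : orderOf b = 2) :
    a = b := by
  rcases h with h | ⟨n, ⟨e⟩⟩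
  · have ha' : a ≠ 1 := by rintro rfl; rw [orderOf_one] at ha; omega
    have hb' : b ≠ 1 := by rintro rfl; rw [orderOf_one] at hb; omega
    classical
    have hft := Fintype.ofFinite T
    have h1 := IsCyclic.card_pow_eq_one_le (α := T) (n := 2) (by norm_num)
    by_contra hne
    have h2 : ({1, a, b} : Finset T) ⊆ Finset.univ.filter fun x : T => x ^ 2 = 1 := by
      intro x hx
      simp only [Finset.mem_insert, Finset.mem_singleton] at hx
      rw [Finset.mem_filter]
      refine ⟨Finset.mem_univ _, ?_⟩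
      rcases hx with rfl | rfl | rfl
      · exact one_pow 2
      · rw [← ha]; exact pow_orderOf_eq_one _
      · rw [← hb]; exact pow_orderOf_eq_one _
    have h3 := Finset.card_le_card h2
    rw [Finset.card_insert_of_notMem, Finset.card_insert_of_notMem, Finset.card_singleton] at h3
    · have h4 : (Finset.univ.filter fun x : T => x ^ 2 = 1).card ≤ 2 := by
        convert h1
      omega
    · simpa using hne
    · simp only [Finset.mem_insert, Finset.mem_singleton, not_or]
      exact ⟨ha'.symm, hb'.symm⟩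
  · have key : ∀ x : QuaternionGroup (2 ^ n), orderOf x = 2 →
        x = QuaternionGroup.a ((2 ^ n : ℕ) : ZMod (2 * 2 ^ n)) := by
      intro x hx
      have hne : NeZero (2 ^ n) := ⟨by positivity⟩
      rcases x with i | i
      · have h4 := pow_orderOf_eq_one (QuaternionGroup.a i : QuaternionGroup (2 ^ n))
        rw [hx, pow_two, QuaternionGroup.a_mul_a, QuaternionGroup.one_def, QuaternionGroup.a.injEq] at h4
        congr 1
        have hi0 : i ≠ 0 := by
          rintro rfl
          rw [← QuaternionGroup.one_def, orderOf_one] at hx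
          norm_num at hx
        have hne2 : NeZero (2 * 2 ^ n) := ⟨by positivity⟩
        have h6 : ((i.val + i.val : ℕ) : ZMod (2 * 2 ^ n)) = 0 := by
          rw [Nat.cast_add, ZMod.natCast_zmod_val, h4]
        rw [ZMod.natCast_eq_zero_iff] at h6
        have h7 := ZMod.val_lt i
        have h8 : i.val ≠ 0 := fun h => hi0 ((ZMod.val_eq_zero i).1 h)
        have h9 : i.val = 2 ^ n := by
          obtain ⟨c, hc⟩ := h6
          have h10 : 0 < 2 ^ n := by positivity
          have hc1 : c = 1 := by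
            have : c ≠ 0 := by rintro rfl; omega
            by_contra hc2
            have h11 : 2 ≤ c := by omega
            nlinarith
          subst hc1
          omega
        have h10 : ((i.val : ℕ) : ZMod (2 * 2 ^ n)) = ((2 ^ n : ℕ) : ZMod (2 * 2 ^ n)) :=
          congrArg (Nat.cast) h9
        rwa [ZMod.natCast_zmod_val] at h10
      · rw [QuaternionGroup.orderOf_xa] at hx
        omega
    apply e.injective
    rw [key (e a) (by rw [MulEquiv.orderOf_eq, ha]), key (e b) (by rw [MulEquiv.orderOf_eq, hb])]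

variable {G : Type*} [Group G] [Finite G]

/-- **`u ∣ |K|`, `|K|` odd, `S` a component of `G / K`: `2 u` is an element order.** -/
theorem rad_odd (K : Subgroup G) [K.Normal] {u : ℕ} (hu : u.Prime) (hu2 : u ≠ 2) (huK : u ∣ Nat.card ↥K)
    (h2K : ¬ 2 ∣ Nat.card ↥K) (h : ¬ ∃ x : G, orderOf x = 2 * u) (S : Subgroup (G ⧸ K)) (hS : IsComp S) : False := by
  classical
  have h2' : Fact (Nat.Prime 2) := ⟨Nat.prime_two⟩
  have hsimple := hS.simple
  have h2S := hS.two_dvd
  have hsec : ∀ Q : Subgroup (G ⧸ K), IsPGroup 2 ↥Q → ∃ T : Subgroup G, IsPGroup 2 ↥T ∧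
      T.map (QuotientGroup.mk' K) = Q ∧ IsQ ↥T := fun Q hQ => exists_isQ K hu hu2 huK h Q hQ
  have hsecD : ∀ Q : Subgroup (G ⧸ K), IsPGroup 2 ↥Q → IsQD ↥Q := by
    intro Q hQ
    obtain ⟨T, -, hT, hTq⟩ := hsec Q hQ
    let f : ↥T →* ↥Q := ((QuotientGroup.mk' K).domRestrict T).codRestrict Q fun y => by
      rw [← hT]; exact ⟨y, y.2, rfl⟩
    refine hTq.quot f ?_
    rintro ⟨q, hq⟩
    rw [← hT] at hq
    obtain ⟨y, hy, rfl⟩ := hq
    exact ⟨⟨y, hy⟩, rfl⟩
  obtain ⟨Q⟩ : Nonempty (Sylow 2 ↥S) := inferInstance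
  have hQp : IsPGroup 2 ↥((Q : Subgroup ↥S).map S.subtype) := Q.isPGroup'.map _
  have hQ : IsQD ↥(Q : Subgroup ↥S) :=
    (hsecD _ hQp).congr ((Q : Subgroup ↥S).equivMapOfInjective _ S.subtype_injective).symm
  have hD := dihedral_of_simple hS.noncomm h2S Q hQ
  obtain ⟨k, hk, ⟨e⟩⟩ := hD
  obtain ⟨j, hj⟩ := Q.isPGroup'.exists_card_eq
  have hj' : 2 * k = 2 ^ j := by
    rw [← hj, Nat.card_congr e.toEquiv, DihedralGroup.nat_card]
  obtain ⟨a, b, ha, hb, hab, -⟩ := H414.Rad.dihedral_four hk hj'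
  -- lift to `T`
  obtain ⟨T, hTp, hT, hTq⟩ := hsec _ hQp
  have hinj : ∀ x ∈ T, QuotientGroup.mk' K x = 1 → x = 1 := by
    intro x hx h1
    have hxK : x ∈ K := (QuotientGroup.eq_one_iff x).1 h1
    obtain ⟨i, hi⟩ := IsPGroup.iff_orderOf.1 hTp ⟨x, hx⟩
    rw [Subgroup.orderOf_mk] at hi
    by_contra hx1
    apply h2K
    have h3 : 2 ∣ orderOf x := by
      rw [hi]
      apply dvd_pow_self
      rintro rfl
      rw [pow_zero, orderOf_eq_one_iff] at hi
      exact hx1 hi
    rw [← Subgroup.orderOf_mk x hxK] at h3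
    exact h3.trans (orderOf_dvd_natCard _)
  have hlift : ∀ x : ↥(Q : Subgroup ↥S), orderOf x = 2 → ∃ y : ↥T, orderOf y = 2 ∧
      QuotientGroup.mk' K y = ((x : ↥S) : G ⧸ K) := by
    intro x hx
    have hm : ((x : ↥S) : G ⧸ K) ∈ (Q : Subgroup ↥S).map S.subtype := ⟨x, x.2, rfl⟩
    rw [← hT] at hm
    obtain ⟨y, hy, hyx⟩ := hm
    refine ⟨⟨y, hy⟩, ?_, hyx⟩
    have hx2 : ((x : ↥S) : G ⧸ K) * ((x : ↥S) : G ⧸ K) = 1 := by
      have h3 := pow_orderOf_eq_one x
      rw [hx, pow_two] at h3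
      have h4 := congrArg (fun z : ↥(Q : Subgroup ↥S) => ((z : ↥S) : G ⧸ K)) h3
      exact h4
    apply orderOf_eq_prime
    · apply Subtype.ext
      change y ^ 2 = 1
      apply hinj _ (pow_mem hy 2)
      rw [map_pow, hyx, pow_two, hx2]
    · intro h3
      have h4 : y = 1 := congrArg Subtype.val h3
      rw [h4, map_one] at hyx
      have h5 : x = 1 := Subtype.ext (Subtype.ext hyx.symm)
      rw [h5, orderOf_one] at hx
      omega
  obtain ⟨y, hy, hyx⟩ := hlift (e.symm a) (by rw [MulEquiv.orderOf_eq, ha])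
  obtain ⟨z, hz, hzx⟩ := hlift (e.symm b) (by rw [MulEquiv.orderOf_eq, hb])
  have hyz := isQ_unique hTq hy hz
  rw [hyz, hzx] at hyx
  exact hab (e.symm.injective (Subtype.ext (Subtype.ext hyx.symm)))

end Cfsg.Agent.H432.PG
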