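import Cfsg.Agent.H432.PG.Base
import Cfsg.Agent.H432.PG.Quat
import Cfsg.Agent.H414.Vasiliev

/-!
# The structure of a group with the prime graph of `PSL_2(p)` (helper432)
-/

set_option autoImplicit false

namespace Cfsg.Agent.H432.PG

open Subgroup Cfsg.Agent.H414.Adj Cfsg.Agent.H414.Good Cfsg.Agent.H414.Comp Cfsg.Agent.H414.Vasiliev

/-- the product of a solvable normal subgroup and a solvable subgroup -/
theorem isSolvable_sup {G : Type*} [Group G] {N A : Subgroup G} [N.Normal] (hN : Group.IsSolvable ↥N)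
    (hA : Group.IsSolvable ↥A) : Group.IsSolvable ↥(N ⊔ A) := by
  set f : G →* G ⧸ N := QuotientGroup.mk' N with hf
  have hker : f.ker = N := QuotientGroup.ker_mk' N
  have hmap : (N ⊔ A).map f = A.map f := by
    rw [Subgroup.map_sup, (Subgroup.map_eq_bot_iff (f := f) N).mpr hker.ge, bot_sup_eq]
  have hA' : Group.IsSolvable ↥((N ⊔ A).map f) := by
    rw [hmap]
    exact Group.isSolvable_of_surjective (f := f.subgroupMap A) (f.subgroupMap_surjective A)
  refine Group.isSolvable_of_ker_le_range (Subgroup.inclusion (le_sup_left : N ≤ N ⊔ A))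
    (f.subgroupMap (N ⊔ A)) ?_
  rintro ⟨x, hx⟩ hx1
  rw [MonoidHom.mem_ker] at hx1
  have h1 : f x = 1 := congrArg Subtype.val hx1
  rw [← MonoidHom.mem_ker, hker] at h1
  exact ⟨⟨x, h1⟩, rfl⟩

/-- the solvable radical -/
theorem exists_radical (G : Type*) [Group G] [Finite G] : ∃ K : Subgroup G, K.Normal ∧ Group.IsSolvable ↥K ∧
    ∀ M : Subgroup G, M.Normal → Group.IsSolvable ↥M → M ≤ K := by
  have hfin : (Set.Finite {N : Subgroup G | N.Normal ∧ Group.IsSolvable ↥N}) := Set.toFinite _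
  obtain ⟨K, hK⟩ := hfin.exists_maximal ⟨⊥, (inferInstance : (⊥ : Subgroup G).Normal), inferInstance⟩
  obtain ⟨hKn, hKs⟩ := hK.prop
  refine ⟨K, hKn, hKs, fun M hM hMs => ?_⟩
  have h1 : (K ⊔ M : Subgroup G) ∈ {N : Subgroup G | N.Normal ∧ Group.IsSolvable ↥N} :=
    ⟨Subgroup.sup_normal K M, isSolvable_sup hKs hMs⟩
  exact le_sup_right.trans (hK.le_of_ge h1 le_sup_left)

variable {G : Type*} [Group G] [Finite G] {p n m : ℕ}

omit [Finite G] in
theorem GPg.coc (B : GPg G p n m) {t : ℕ} (ht : t.Prime) (htn : t ∣ n) : Coc G {2, p, t} := by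
  have h11 := B.A.h11
  have hp := B.A.hp
  have htp : t ≠ p := by rintro rfl; exact B.A.not_p_dvd_n htn
  have h2n := B.A.two_not_dvd_n
  have ht2 : t ≠ 2 := by rintro rfl; exact h2n htn
  obtain ⟨-, -, hpG, hp2⟩ := B.not_two (Or.inl rfl)
  obtain ⟨-, -, htG, ht2'⟩ := B.not_two (Or.inr ⟨ht, htn⟩)
  have hpt := B.not_p ht htp
  constructor
  · intro r hr
    simp only [Finset.mem_insert, Finset.mem_singleton] at hr
    rcases hr with rfl | rfl | rfl
    · exact ⟨Nat.prime_two, (B.pr 2 Nat.prime_two).2 (Or.inr (Or.inr B.A.even_m))⟩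
    · exact ⟨hp, hpG⟩
    · exact ⟨ht, htG⟩
  · intro r hr s hs hne
    simp only [Finset.mem_insert, Finset.mem_singleton] at hr hs
    rcases hr with rfl | rfl | rfl <;> rcases hs with rfl | rfl | rfl
    · exact absurd rfl hne
    · exact hp2
    · exact ht2'
    · rw [mul_comm]; exact hp2
    · exact absurd rfl hne
    · exact hpt
    · rw [mul_comm]; exact ht2'
    · rw [mul_comm]; exact hpt
    · exact absurd rfl hne

omit [Finite G] in
theorem GPg.coc_card (B : GPg G p n m) {t : ℕ} (htn : t ∣ n) : 3 ≤ ({2, p, t} : Finset ℕ).card := by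
  have h11 := B.A.h11
  have htp : t ≠ p := by rintro rfl; exact B.A.not_p_dvd_n htn
  have ht2 : t ≠ 2 := by rintro rfl; exact B.A.two_not_dvd_n htn
  rw [Finset.card_insert_of_notMem, Finset.card_insert_of_notMem, Finset.card_singleton]
  · rw [Finset.mem_singleton]
    exact htp.symm
  · simp only [Finset.mem_insert, Finset.mem_singleton, not_or]
    exact ⟨by omega, ht2.symm⟩

/-- **The structure.** -/
theorem GPg.str (B : GPg G p n m) : ∃ (K : Subgroup G) (_ : K.Normal) (S : Subgroup (G ⧸ K)),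
    Group.IsSolvable ↥K ∧ IsComp S ∧ S.Normal ∧ centralizer (S : Set (G ⧸ K)) = ⊥ ∧
      ∀ u : ℕ, u = p ∨ (u.Prime ∧ u ∣ n) → ¬ u ∣ Nat.card ↥K ∧ ¬ u ∣ S.index := by
  classical
  have h5 := B.A.n_pos
  obtain ⟨t, ht, htn⟩ := Nat.exists_prime_and_dvd (n := n) (by omega)
  have hG : ¬ Group.IsSolvable G :=
    (Cfsg.Agent.S3633.result _ (B.coc_card htn) (B.coc ht htn) ⊥ inferInstance).2
  obtain ⟨K, hKn, hKs, hKmax⟩ := exists_radical G
  have hnt := nontrivial_quot hG K hKs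
  have hrad := quot_radical K hKs hKmax
  -- the primes do not divide `|K|`
  have hK : ∀ u : ℕ, u = p ∨ (u.Prime ∧ u ∣ n) → ¬ u ∣ Nat.card ↥K := by
    intro u hu huK
    obtain ⟨h1, h2, h3, h4⟩ := B.not_two hu
    have h2K : ¬ 2 ∣ Nat.card ↥K := by
      intro h2K
      obtain ⟨v, hv, hvn, huv⟩ : ∃ v, v.Prime ∧ v ∣ n ∧ u ∈ ({2, p, v} : Finset ℕ) := by
        rcases hu with rfl | ⟨h5, h6⟩
        · exact ⟨t, ht, htn, by simp⟩
        · exact ⟨u, h5, h6, by simp⟩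
      have h6 := (Cfsg.Agent.S3633.result _ (B.coc_card hvn) (B.coc hv hvn) K hKs).1 2 (by simp) u huv h2K huK
      exact h2 h6.symm
    obtain ⟨S, hS⟩ := exists_comp hrad
    exact rad_odd K h1 h2 huK h2K h4 S hS
  -- the socle
  have key : ∀ u : ℕ, u = p ∨ (u.Prime ∧ u ∣ n) → ∃ S : Subgroup (G ⧸ K), IsComp S ∧ S.Normal ∧
      centralizer (S : Set (G ⧸ K)) = ⊥ ∧ ¬ u ∣ S.index := by
    intro u hu
    obtain ⟨h1, h2, h3, h4⟩ := B.not_two hu
    have hpX : u ∣ Nat.card (G ⧸ K) := by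
      have h5 : Nat.card G = Nat.card (G ⧸ K) * Nat.card ↥K := Subgroup.card_eq_card_quotient_mul_card_subgroup K
      rw [h5] at h3
      exact (h1.dvd_mul.1 h3).resolve_right (hK u hu)
    have h5 : ¬ ∃ x : G ⧸ K, orderOf x = 2 * u := fun h5 => h4 (exists_order_quot K
      (Nat.mul_ne_zero two_ne_zero h1.ne_zero) h5)
    obtain ⟨S, h6, h7, -, h8, h9⟩ := structure_of_dvd hrad good_comp h1 h2 hpX h5
    exact ⟨S, h6, h7, h9, h8⟩
  obtain ⟨S, hS, hSn, hSc, hSp⟩ := key p (Or.inl rfl)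
  refine ⟨K, hKn, S, hKs, hS, hSn, hSc, fun u hu => ⟨hK u hu, ?_⟩⟩
  obtain ⟨T, hT, hTn, hTc, hTu⟩ := key u hu
  have hTS := eq_of_normal hS hT hSn hTn hSc
  rw [← hTS]
  exact hTu

/-- the simple group satisfies the conditions -/
theorem GPg.pb (B : GPg G p n m) (K : Subgroup G) [K.Normal] (S : Subgroup (G ⧸ K))
    (h : ∀ u : ℕ, u = p ∨ (u.Prime ∧ u ∣ n) → ¬ u ∣ Nat.card ↥K ∧ ¬ u ∣ S.index) : PB ↥S p n m := by
  have hcard : Nat.card G = Nat.card ↥S * (Nat.card ↥K * S.index) := by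
    rw [Subgroup.card_eq_card_quotient_mul_card_subgroup K, ← Subgroup.card_mul_index S]
    ring
  have hdv : ∀ u : ℕ, u = p ∨ (u.Prime ∧ u ∣ n) → u ∣ Nat.card ↥S := by
    intro u hu
    obtain ⟨h1, h2, h3, h4⟩ := B.not_two hu
    obtain ⟨h5, h6⟩ := h u hu
    rw [hcard] at h3
    refine (h1.dvd_mul.1 h3).resolve_right fun h7 => ?_
    rcases h1.dvd_mul.1 h7 with h8 | h8
    · exact h5 h8
    · exact h6 h8
  have hadj : ∀ r s : ℕ, H94.PG.Adj ↥S r s → ∃ y : G, orderOf y = r * s := by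
    rintro r s ⟨hr, hs, hne, x, y, hx, hy, hc⟩
    have h1 := exists_order_mul_of_commute hr hs hne hx hy hc
    exact exists_order_quot K (Nat.mul_ne_zero hr.ne_zero hs.ne_zero) (exists_order_subgroup h1)
  refine ⟨B.A, ?_, hdv p (Or.inl rfl), fun r hr hrn => hdv r (Or.inr ⟨hr, hrn⟩), ?_, ?_⟩
  · intro r hr hd
    exact (B.pr r hr).1 (by rw [hcard]; exact hd.mul_right _)
  · intro r hadj'
    exact B.not_p hadj'.2.1 hadj'.2.2.1.symm (hadj _ _ hadj')
  · intro r s hrn hsn hadj'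
    exact B.not_n hadj'.1 hadj'.2.1 hrn hsn (hadj _ _ hadj')

end Cfsg.Agent.H432.PG
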